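import Cfsg.Agent.Lib.Characters.Basic
import Cfsg.Agent.Lib.Induced.Character

/-!
# Clifford theory for the irreducible characters of a normal subgroup

* `conjC N g θ`, `inertia N θ`;
* `exists_conj_of_constituents`, `clifford` : Clifford's theorem;
* `exists_correspondent` : Clifford correspondence.
-/

set_option autoImplicit false

namespace Cfsg.Agent.Lib.Clifford.Basic

open scoped ComplexConjugate
open Cfsg.Agent.Lib.Induced.Basic Cfsg.Agent.Lib.Characters.Basic

universe u v

variable {G : Type u} [Group G]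

/-! ## Generalities on constituents -/

section constituents

variable [Fintype G]

/-- A character minus the multiple of an irreducible constituent is again a character. -/
theorem exists_eq_nsmul_add {φ : G → ℂ} (hφ : Cfsg.IsCharacter G φ) (a : Cfsg.IrrCharacter G) :
    ∃ (m : ℕ) (r : G → ℂ), Cfsg.IsCharacter G r ∧ Cfsg.classInner φ a = m ∧
      Cfsg.classInner r a = 0 ∧ φ = m • (a : G → ℂ) + r := by
  refine character_induction (P := fun φ : G → ℂ =>
    ∃ (m : ℕ) (r : G → ℂ), Cfsg.IsCharacter G r ∧ Cfsg.classInner φ a = m ∧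
      Cfsg.classInner r a = 0 ∧ φ = m • (a : G → ℂ) + r) ?_ ?_ hφ
  · exact ⟨0, 0, isCharacter_zero, by simp [classInner_zero_left], classInner_zero_left _, by simp⟩
  · rintro b ψ _ ⟨m, r, hr, hm, hr0, rfl⟩
    by_cases hba : b = a
    · subst hba
      refine ⟨m + 1, r, hr, ?_, hr0, by rw [succ_nsmul]; abel⟩
      rw [classInner_add_left, classInner_self_irr, hm]
      push_cast
      ring
    · refine ⟨m, (b : G → ℂ) + r, isCharacter_add (isCharacter_irr b) hr, ?_, ?_, by abel⟩
      · rw [classInner_add_left, classInner_irr_of_ne hba, zero_add, hm]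
      · rw [classInner_add_left, classInner_irr_of_ne hba, zero_add, hr0]

/-- A non-zero character has an irreducible constituent. -/
theorem exists_constituent {φ : G → ℂ} (hφ : Cfsg.IsCharacter G φ) (h : φ ≠ 0) :
    ∃ a : Cfsg.IrrCharacter G, Cfsg.classInner φ a ≠ 0 := by
  by_contra hcon
  push Not at hcon
  apply h
  rw [character_eq_finsum hφ]
  simp [hcon]

/-- A character of degree zero vanishes. -/
theorem eq_zero_of_apply_one_eq_zero {φ : G → ℂ} (hφ : Cfsg.IsCharacter G φ) (h : φ 1 = 0) :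
    φ = 0 := by
  funext g
  have := norm_apply_le hφ g
  rw [h, norm_zero, norm_le_zero_iff] at this
  exact this

omit [Fintype G] in
theorem degree_pos {χ : G → ℂ} (hχ : Cfsg.IsIrrCharacter G χ) : χ 1 ≠ 0 :=
  apply_one_ne_zero ⟨χ, hχ⟩

/-- Two characters whose inner product with an irreducible one is non-zero. -/
theorem classInner_ne_zero_symm {φ ψ : G → ℂ} (h : Cfsg.classInner φ ψ ≠ 0) :
    Cfsg.classInner ψ φ ≠ 0 := fun h0 => h (by rw [← classInner_conj_symm, h0, map_zero])

theorem classInner_nsmul_left (m : ℕ) (φ ψ : G → ℂ) :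
    Cfsg.classInner (m • φ) ψ = m * Cfsg.classInner φ ψ := by
  rw [← Nat.cast_smul_eq_nsmul ℂ, classInner_smul_left]

theorem classInner_nsmul_right (m : ℕ) (φ ψ : G → ℂ) :
    Cfsg.classInner φ (m • ψ) = m * Cfsg.classInner φ ψ := by
  rw [← Nat.cast_smul_eq_nsmul ℂ, classInner_smul_right, map_natCast]

theorem classInner_natCast_smul_left (m : ℕ) (φ ψ : G → ℂ) :
    Cfsg.classInner ((m : ℂ) • φ) ψ = m * Cfsg.classInner φ ψ :=
  classInner_smul_left _ φ ψ

/-- An irreducible character meeting a sum of two characters meets one of them. -/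
theorem classInner_add_ne_zero {φ φ' ψ : G → ℂ} (h : Cfsg.classInner (φ + φ') ψ ≠ 0) :
    Cfsg.classInner φ ψ ≠ 0 ∨ Cfsg.classInner φ' ψ ≠ 0 := by
  rw [classInner_add_left] at h
  by_contra hcon
  push Not at hcon
  exact h (by rw [hcon.1, hcon.2, add_zero])

/-- Constituent of a constituent: characters restricted along a homomorphism. -/
theorem classInner_comp_ne_zero {H : Type v} [Group H] [Fintype H] (f : H →* G) {φ : G → ℂ}
    (hφ : Cfsg.IsCharacter G φ) {a : Cfsg.IrrCharacter G} (ha : Cfsg.classInner φ a ≠ 0)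
    {b : Cfsg.IrrCharacter H} (hb : Cfsg.classInner ((a : G → ℂ) ∘ f) b ≠ 0) :
    Cfsg.classInner (φ ∘ f) b ≠ 0 := by
  obtain ⟨m, r, hr, hm, -, rfl⟩ := exists_eq_nsmul_add hφ a
  have hcomp : (m • (a : G → ℂ) + r) ∘ f = m • ((a : G → ℂ) ∘ f) + r ∘ f := rfl
  obtain ⟨k, hk⟩ := exists_classInner_nat (isCharacter_comp f (isCharacter_irr a)) (isCharacter_irr b)
  obtain ⟨j, hj⟩ := exists_classInner_nat (isCharacter_comp f hr) (isCharacter_irr b)
  rw [hcomp, classInner_add_left, classInner_nsmul_left, hk, hj]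
  rw [hm, Nat.cast_ne_zero] at ha
  rw [hk, Nat.cast_ne_zero] at hb
  have : m * k + j ≠ 0 := by positivity
  exact_mod_cast this

end constituents

/-! ## Conjugation -/

/-- Conjugate of a function on a normal subgroup. -/
def conjC (N : Subgroup G) [hN : N.Normal] (g : G) (θ : N → ℂ) : N → ℂ :=
  fun n => θ ⟨g * n * g⁻¹, hN.conj_mem (n : G) n.2 g⟩

variable (N : Subgroup G) [hN : N.Normal]

theorem conjC_apply (g : G) (θ : N → ℂ) (n : N) :
    conjC N g θ n = θ ⟨g * n * g⁻¹, hN.conj_mem (n : G) n.2 g⟩ := rfl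

theorem conjC_eq_comp (g : G) (θ : N → ℂ) :
    conjC N g θ = θ ∘ (MulAut.conjNormal g).toMonoidHom := rfl

theorem conjC_one (θ : N → ℂ) : conjC N 1 θ = θ := by
  funext n
  simp [conjC]

theorem conjC_mul (g h : G) (θ : N → ℂ) : conjC N (g * h) θ = conjC N h (conjC N g θ) := by
  funext n
  simp [conjC, mul_assoc]

theorem conjC_inv_conjC (g : G) (θ : N → ℂ) : conjC N g⁻¹ (conjC N g θ) = θ := by
  rw [← conjC_mul, mul_inv_cancel, conjC_one]

theorem conjC_conjC_inv (g : G) (θ : N → ℂ) : conjC N g (conjC N g⁻¹ θ) = θ := by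
  rw [← conjC_mul, inv_mul_cancel, conjC_one]

theorem isCharacter_conjC (g : G) {θ : N → ℂ} (h : Cfsg.IsCharacter N θ) :
    Cfsg.IsCharacter N (conjC N g θ) := isCharacter_comp (MulAut.conjNormal g).toMonoidHom h

theorem isIrrCharacter_conjC (g : G) {θ : N → ℂ} (h : Cfsg.IsIrrCharacter N θ) :
    Cfsg.IsIrrCharacter N (conjC N g θ) :=
  isIrrCharacter_comp _ (MulAut.conjNormal g).surjective h

theorem conjC_of_mem {θ : N → ℂ} (hθ : Cfsg.IsClassFunction N θ) {m : G} (hm : m ∈ N) :
    conjC N m θ = θ := by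
  funext n
  exact hθ n ⟨m, hm⟩

theorem conjC_restrict {χ : G → ℂ} (hχ : Cfsg.IsClassFunction G χ) (g : G) :
    conjC N g (fun n : N => χ n) = fun n : N => χ n := by
  funext n
  exact hχ n g

theorem classInner_conjC [Fintype N] (g : G) (φ θ : N → ℂ) :
    Cfsg.classInner (conjC N g φ) (conjC N g θ) = Cfsg.classInner φ θ := by
  simp only [Cfsg.classInner]
  congr 1
  exact Fintype.sum_equiv (MulAut.conjNormal g).toEquiv _ _ fun n => rfl

theorem classInner_restrict_conjC [Fintype N] {χ : G → ℂ} (hχ : Cfsg.IsClassFunction G χ) (g : G)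
    (θ : N → ℂ) :
    Cfsg.classInner (fun n : N => χ n) (conjC N g θ) = Cfsg.classInner (fun n : N => χ n) θ := by
  conv_lhs => rw [← conjC_restrict N hχ g]
  exact classInner_conjC N g _ θ

/-- The inertia subgroup. -/
def inertia (θ : N → ℂ) : Subgroup G where
  carrier := {g | conjC N g θ = θ}
  one_mem' := conjC_one N θ
  mul_mem' {a b} ha hb := by
    show conjC N (a * b) θ = θ
    rw [conjC_mul, ha, hb]
  inv_mem' {a} ha := by
    show conjC N a⁻¹ θ = θ
    conv_lhs => rw [← ha]
    exact conjC_inv_conjC N a θ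

theorem mem_inertia {θ : N → ℂ} {g : G} : g ∈ inertia N θ ↔ conjC N g θ = θ := Iff.rfl

theorem le_inertia {θ : N → ℂ} (hθ : Cfsg.IsClassFunction N θ) : N ≤ inertia N θ :=
  fun _ hm => conjC_of_mem N hθ hm

theorem conjC_eq_conjC_iff {θ : N → ℂ} (g h : G) :
    conjC N g θ = conjC N h θ ↔ g * h⁻¹ ∈ inertia N θ := by
  rw [mem_inertia, conjC_mul]
  constructor
  · intro e
    rw [e, conjC_inv_conjC]
  · intro e
    conv_rhs => rw [← e, conjC_conjC_inv]

/-! ## Restriction of induced functions and Clifford's theorem -/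

variable [Fintype G]

theorem indFun_apply_normal (θ : N → ℂ) (n : N) :
    Cfsg.indFun N θ n = (Nat.card N : ℂ)⁻¹ * ∑ x : G, conjC N x θ n := by
  rw [Cfsg.indFun]
  congr 1
  refine Fintype.sum_equiv (Equiv.inv G) _ _ fun x => ?_
  rw [extendByZero_of_mem N θ (by simpa using hN.conj_mem (n : G) n.2 x⁻¹), conjC_apply]
  simp

theorem indFun_restrict_normal (θ : N → ℂ) :
    (fun n : N => Cfsg.indFun N θ n) = (Nat.card N : ℂ)⁻¹ • ∑ x : G, conjC N x θ := by
  funext n
  rw [indFun_apply_normal, Pi.smul_apply, Finset.sum_apply, smul_eq_mul]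

variable [Fintype N]

/-- Constituents of the restriction of an irreducible character are conjugate. -/
theorem exists_conj_of_constituents {χ : G → ℂ} (hχ : Cfsg.IsIrrCharacter G χ)
    {θ ψ : Cfsg.IrrCharacter N} (hθ : Cfsg.classInner (fun n : N => χ n) θ ≠ 0)
    (hψ : Cfsg.classInner (fun n : N => χ n) ψ ≠ 0) :
    ∃ g : G, conjC N g θ = (ψ : N → ℂ) := by
  by_contra hcon
  push Not at hcon
  have hcl := isClassFunction_irr (⟨χ, hχ⟩ : Cfsg.IrrCharacter G)
  have h1 : Cfsg.classInner (Cfsg.indFun N (θ : N → ℂ)) (⟨χ, hχ⟩ : Cfsg.IrrCharacter G) ≠ 0 := by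
    show Cfsg.classInner _ χ ≠ 0
    rw [frobenius_reciprocity N _ hcl]
    exact classInner_ne_zero_symm hθ
  have hind := Lib.Induced.Character.isCharacter_indFun N (isCharacter_irr θ)
  have h2 : Cfsg.classInner (Cfsg.indFun N (θ : N → ℂ) ∘ N.subtype) ψ ≠ 0 :=
    classInner_comp_ne_zero N.subtype hind h1 hψ
  apply h2
  have e : Cfsg.indFun N (θ : N → ℂ) ∘ N.subtype = fun n : N => Cfsg.indFun N (θ : N → ℂ) n := rfl
  rw [e, indFun_restrict_normal, classInner_smul_left, classInner_sum_left,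
    Finset.sum_eq_zero, mul_zero]
  intro x _
  exact classInner_irr_of_ne (χ := ⟨_, isIrrCharacter_conjC N x θ.2⟩) (ψ := ψ)
    fun h => hcon x (congrArg Subtype.val h)

theorem classInner_sum_conjC_self (θ : Cfsg.IrrCharacter N) :
    Cfsg.classInner (∑ x : G, conjC N x θ) θ = (Nat.card (inertia N (θ : N → ℂ)) : ℂ) := by
  classical
  rw [classInner_sum_left]
  have : ∀ x : G, Cfsg.classInner (conjC N x θ) θ
      = if x ∈ inertia N (θ : N → ℂ) then 1 else 0 := fun x => by
    have := classInner_irr (⟨_, isIrrCharacter_conjC N x θ.2⟩ : Cfsg.IrrCharacter N) θ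
    simp only [Subtype.ext_iff] at this
    rw [this]
    exact if_congr Iff.rfl rfl rfl
  simp only [this, Finset.sum_boole]
  rw [Nat.card_eq_fintype_card, Fintype.card_subtype]

/-- Clifford's theorem, in averaged form. -/
theorem clifford {χ : G → ℂ} (hχ : Cfsg.IsIrrCharacter G χ) (θ : Cfsg.IrrCharacter N)
    (hθ : Cfsg.classInner (fun n : N => χ n) θ ≠ 0) :
    (fun n : N => χ n) = (Cfsg.classInner (fun n : N => χ n) θ /
      (Nat.card (inertia N (θ : N → ℂ)) : ℂ)) • ∑ x : G, conjC N x θ := by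
  have hcl := isClassFunction_irr (⟨χ, hχ⟩ : Cfsg.IrrCharacter G)
  have hres : Cfsg.IsCharacter N (fun n : N => χ n) :=
    isCharacter_comp N.subtype (IsCharacter_of_isIrrCharacter hχ)
  set e := Cfsg.classInner (fun n : N => χ n) θ with he
  have hT : (Nat.card (inertia N (θ : N → ℂ)) : ℂ) ≠ 0 := subgroup_card_ne_zero _
  have hsum : Cfsg.IsCharacter N (∑ x : G, conjC N x θ) :=
    isCharacter_sum _ fun x _ => isCharacter_conjC N x (isCharacter_irr θ)
  rw [character_eq_finsum hres]
  conv_rhs => rw [character_eq_finsum hsum, smul_finsum]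
  refine finsum_congr fun ψ => ?_
  rw [smul_smul]
  congr 1
  by_cases hψ : ∃ g : G, conjC N g θ = (ψ : N → ℂ)
  · obtain ⟨g, hg⟩ := hψ
    rw [← hg, classInner_restrict_conjC N hcl, ← he]
    have : Cfsg.classInner (∑ x : G, conjC N x θ) (conjC N g θ)
        = (Nat.card (inertia N (θ : N → ℂ)) : ℂ) := by
      rw [← classInner_sum_conjC_self N θ, classInner_sum_left, classInner_sum_left]
      refine Fintype.sum_equiv (Equiv.mulRight g⁻¹) _ _ fun x => ?_
      rw [Equiv.coe_mulRight, ← classInner_conjC N g⁻¹, ← conjC_mul, conjC_inv_conjC]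
    rw [this, div_mul_cancel₀ _ hT]
  · have h0 : Cfsg.classInner (fun n : N => χ n) ψ = 0 := by
      by_contra h
      exact hψ (exists_conj_of_constituents N hχ hθ h)
    rw [h0, classInner_sum_left, Finset.sum_eq_zero, mul_zero]
    intro x _
    exact classInner_irr_of_ne (χ := ⟨_, isIrrCharacter_conjC N x θ.2⟩)
      fun h => hψ ⟨x, congrArg Subtype.val h⟩

omit [Fintype G] hN in
/-- Every irreducible character has a constituent on a normal subgroup. -/
theorem exists_constituent_restrict [Finite G] {χ : G → ℂ} (hχ : Cfsg.IsIrrCharacter G χ) :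
    ∃ θ : Cfsg.IrrCharacter N, Cfsg.classInner (fun n : N => χ n) θ ≠ 0 := by
  have := Fintype.ofFinite G
  refine exists_constituent (isCharacter_comp N.subtype (IsCharacter_of_isIrrCharacter hχ)) fun h => ?_
  exact degree_pos hχ (congrFun h 1)

/-- Degrees in Clifford's theorem. -/
theorem clifford_degree {χ : G → ℂ} (hχ : Cfsg.IsIrrCharacter G χ) (θ : Cfsg.IrrCharacter N)
    (hθ : Cfsg.classInner (fun n : N => χ n) θ ≠ 0) :
    χ 1 = Cfsg.classInner (fun n : N => χ n) θ *
      ((inertia N (θ : N → ℂ)).index : ℂ) * (θ : N → ℂ) 1 := by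
  have h := congrFun (clifford N hχ θ hθ) 1
  simp only [Pi.smul_apply, Finset.sum_apply, smul_eq_mul] at h
  have hone : ∀ x : G, conjC N x θ 1 = (θ : N → ℂ) 1 := fun x => by
    simp [conjC]
    rfl
  simp only [hone, Finset.sum_const, Finset.card_univ, nsmul_eq_mul] at h
  have hT : (Nat.card (inertia N (θ : N → ℂ)) : ℂ) ≠ 0 := subgroup_card_ne_zero _
  have hG : ((Fintype.card G : ℕ) : ℂ) = (inertia N (θ : N → ℂ)).index *
      (Nat.card (inertia N (θ : N → ℂ)) : ℂ) := by
    rw [← Nat.cast_mul, Subgroup.index_mul_card, Nat.card_eq_fintype_card]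
  rw [OneMemClass.coe_one] at h
  rw [h, hG]
  field_simp

/-- The invariant case: the restriction is a multiple of `θ`. -/
theorem restrict_eq_smul {χ : G → ℂ} (hχ : Cfsg.IsIrrCharacter G χ) (θ : Cfsg.IrrCharacter N)
    (hθ : Cfsg.classInner (fun n : N => χ n) θ ≠ 0) (hinv : ∀ g, conjC N g θ = (θ : N → ℂ)) :
    (fun n : N => χ n) = Cfsg.classInner (fun n : N => χ n) θ • (θ : N → ℂ) := by
  conv_lhs => rw [clifford N hχ θ hθ]
  have hcard : Nat.card (inertia N (θ : N → ℂ)) = Fintype.card G := by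
    rw [← Nat.card_eq_fintype_card, (eq_top_iff.mpr fun g _ => hinv g : inertia N (θ : N → ℂ) = ⊤),
      Subgroup.card_top]
  simp only [hinv, Finset.sum_const, Finset.card_univ, hcard, ← Nat.cast_smul_eq_nsmul ℂ, smul_smul]
  rw [div_mul_cancel₀ _ (Nat.cast_ne_zero.mpr Fintype.card_ne_zero)]

/-- Clifford correspondence: existence of the correspondent. -/
theorem exists_correspondent {χ : G → ℂ} (hχ : Cfsg.IsIrrCharacter G χ) (θ : Cfsg.IrrCharacter N)
    (hθ : Cfsg.classInner (fun n : N => χ n) θ ≠ 0) (T : Subgroup G) [Fintype T]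
    (hT : T = inertia N (θ : N → ℂ)) (hNT : N ≤ T) :
    ∃ ψ : T → ℂ, Cfsg.IsIrrCharacter T ψ ∧ Cfsg.indFun T ψ = χ ∧
      (fun n : N => ψ ⟨(n : G), hNT n.2⟩)
        = Cfsg.classInner (fun n : N => χ n) θ • (θ : N → ℂ) ∧
      Cfsg.classInner (fun t : T => χ t) ψ ≠ 0 := by
  have hcl := isClassFunction_irr (⟨χ, hχ⟩ : Cfsg.IrrCharacter G)
  have hχc := IsCharacter_of_isIrrCharacter hχ
  have hres : Cfsg.IsCharacter T (fun t : T => χ t) := isCharacter_comp T.subtype hχc
  let ι : N →* T := Subgroup.inclusion hNT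
  have hθcl := isClassFunction_irr θ
  -- some constituent of the restriction to `T` lies over `θ`
  obtain ⟨ψ, hψ1, hψ2⟩ : ∃ ψ : Cfsg.IrrCharacter T,
      Cfsg.classInner (fun t : T => χ t) ψ ≠ 0 ∧
      Cfsg.classInner ((ψ : T → ℂ) ∘ ι) θ ≠ 0 := by
    by_contra hcon
    push Not at hcon
    apply hθ
    have e : (fun n : N => χ n) = (fun t : T => χ t) ∘ ι := rfl
    rw [e, character_eq_finsum hres]
    have : Fintype (Cfsg.IrrCharacter T) := Fintype.ofFinite _
    rw [finsum_eq_sum_of_fintype]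
    have e2 : (∑ ψ : Cfsg.IrrCharacter T,
        Cfsg.classInner (fun t : T => χ t) ψ • (ψ : T → ℂ)) ∘ ι
        = ∑ ψ : Cfsg.IrrCharacter T, Cfsg.classInner (fun t : T => χ t) ψ • ((ψ : T → ℂ) ∘ ι) := by
      funext n
      simp [Finset.sum_apply]
    rw [e2, classInner_sum_left, Finset.sum_eq_zero]
    intro ψ _
    rw [classInner_smul_left]
    by_cases h : Cfsg.classInner (fun t : T => χ t) ψ = 0
    · rw [h, zero_mul]
    · rw [hcon ψ h, mul_zero]
  -- its restriction to `N` is homogeneous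
  have hψc : Cfsg.IsCharacter N ((ψ : T → ℂ) ∘ ι) := isCharacter_comp ι (isCharacter_irr ψ)
  obtain ⟨f, hf⟩ := exists_classInner_nat hψc (isCharacter_irr θ)
  have hψN : (ψ : T → ℂ) ∘ ι = (f : ℂ) • (θ : N → ℂ) := by
    let N' : Subgroup T := N.subgroupOf T
    have hN'n : N'.Normal := hN.subgroupOf T
    let eN : N' ≃* N := Subgroup.subgroupOfEquivOfLe hNT
    let θ' : Cfsg.IrrCharacter N' :=
      ⟨(θ : N → ℂ) ∘ eN.toMonoidHom, isIrrCharacter_comp _ eN.surjective θ.2⟩
    have : Fintype N' := Fintype.ofFinite _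
    have hinner : Cfsg.classInner (fun x : N' => (ψ : T → ℂ) x) (θ' : N' → ℂ)
        = Cfsg.classInner ((ψ : T → ℂ) ∘ ι) θ := by
      simp only [Cfsg.classInner, Nat.card_congr eN.toEquiv]
      congr 1
      exact Fintype.sum_equiv eN.toEquiv _ _ fun x => rfl
    have hinv : ∀ t : T, conjC N' t θ' = (θ' : N' → ℂ) := by
      intro t
      funext x
      have htm : (t : G) ∈ inertia N (θ : N → ℂ) := hT ▸ t.2
      exact congrFun htm (eN x)
    have := restrict_eq_smul N' ψ.2 θ' (by rw [hinner]; exact hψ2) hinv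
    rw [hinner, hf] at this
    funext n
    exact congrFun this (eN.symm n)
  -- multiplicities
  obtain ⟨m, r, hr, hm, -, hdec⟩ := exists_eq_nsmul_add hres ψ
  obtain ⟨e, he⟩ := exists_classInner_nat (isCharacter_comp N.subtype hχc) (isCharacter_irr θ)
  have he' : Cfsg.classInner (fun n : N => χ n) θ = (e : ℂ) := he
  have hm0 : m ≠ 0 := fun h => hψ1 (by rw [hm, h, Nat.cast_zero])
  have hfe : f ≤ e := by
    have : (fun n : N => χ n) = m • ((ψ : T → ℂ) ∘ ι) + r ∘ ι := by
      funext n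
      exact congrFun hdec (ι n)
    obtain ⟨j, hj⟩ := exists_classInner_nat (isCharacter_comp ι hr) (isCharacter_irr θ)
    rw [this, classInner_add_left, classInner_nsmul_left, hf, hj] at he'
    have : m * f + j = e := by exact_mod_cast he'
    nlinarith [Nat.pos_of_ne_zero hm0]
  -- `χ` is a constituent of the induced character
  have hind : Cfsg.IsCharacter G (Cfsg.indFun T (ψ : T → ℂ)) :=
    Lib.Induced.Character.isCharacter_indFun T (isCharacter_irr ψ)
  have hcon : Cfsg.classInner (Cfsg.indFun T (ψ : T → ℂ)) χ ≠ 0 := by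
    rw [frobenius_reciprocity T _ hcl]
    exact classInner_ne_zero_symm hψ1
  obtain ⟨k, s, hs, hk, -, hdec'⟩ := exists_eq_nsmul_add hind ⟨χ, hχ⟩
  have hk0 : k ≠ 0 := fun h => hcon (by
    show Cfsg.classInner _ ((⟨χ, hχ⟩ : Cfsg.IrrCharacter G) : G → ℂ) = 0
    rw [hk, h, Nat.cast_zero])
  obtain ⟨d, hd0, hd⟩ := exists_degree_pos θ
  obtain ⟨c, hc⟩ := exists_degree hs
  have hdeg : Cfsg.indFun T (ψ : T → ℂ) 1 = ((T.index * f * d : ℕ) : ℂ) := by
    rw [indFun_one]
    have := congrFun hψN 1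
    simp only [Function.comp_apply, map_one, Pi.smul_apply, hd, smul_eq_mul] at this
    rw [this]
    push_cast
    ring
  have hchi : χ 1 = ((e * T.index * d : ℕ) : ℂ) := by
    rw [clifford_degree N hχ θ hθ, he', hd, ← hT]
    push_cast
    ring
  have h1 := congrFun hdec' 1
  rw [Pi.add_apply, Pi.smul_apply] at h1
  simp only [hc, hchi, hdeg, nsmul_eq_mul] at h1
  have h2 : T.index * f * d = k * (e * T.index * d) + c := by exact_mod_cast h1
  have hTi : 0 < T.index := Nat.pos_of_ne_zero Subgroup.index_ne_zero_of_finite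
  have he0 : e ≠ 0 := fun h => hθ (by rw [he', h, Nat.cast_zero])
  have hkey : T.index * d * f = T.index * d * (k * e) + c := by rw [mul_right_comm, h2]; ring
  have hfke : k * e ≤ f := by
    by_contra hlt
    push Not at hlt
    have := Nat.mul_lt_mul_of_pos_left hlt (Nat.mul_pos hTi hd0)
    omega
  have hk1 : k = 1 := by nlinarith [Nat.pos_of_ne_zero he0, Nat.pos_of_ne_zero hk0]
  have hef : f = e := by subst hk1; omega
  have hc0 : c = 0 := by
    subst hk1; subst hef
    rw [one_mul] at hkey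
    omega
  refine ⟨ψ, ψ.2, ?_, ?_, hψ1⟩
  · have hs0 : s = 0 := eq_zero_of_apply_one_eq_zero hs (by rw [hc, hc0, Nat.cast_zero])
    rw [hdec', hk1, hs0, one_smul, add_zero]
  · rw [he', ← hef]
    exact hψN

end Cfsg.Agent.Lib.Clifford.Basic
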