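import Cfsg.Prelude.Def_CharExt
import Mathlib

/-!
# Schur's lemma, uniqueness of irreducible representations with given character, determinants
-/

set_option autoImplicit false

namespace Cfsg.Agent.Lib.Clifford.Rep

universe u v w

variable {G : Type u} [Group G] {V : Type v} [AddCommGroup V] [Module ℂ V] [FiniteDimensional ℂ V]
  {W : Type w} [AddCommGroup W] [Module ℂ W] [FiniteDimensional ℂ W]

/-- Schur's lemma. -/
theorem schur (ρ : Representation ℂ G V) [ρ.IsIrreducible] (f : Module.End ℂ V)
    (hf : ∀ g, f * ρ g = ρ g * f) : ∃ c : ℂ, f = c • (1 : Module.End ℂ V) := by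
  obtain ⟨c, hc⟩ :=
    (Representation.IsIrreducible.algebraMap_intertwiningMap_bijective_of_isAlgClosed
      (ρ := ρ)).2 ⟨f, hf⟩
  refine ⟨c, ?_⟩
  have := congrArg Representation.IntertwiningMap.toLinearMap hc
  rw [Algebra.algebraMap_eq_smul_one] at this
  refine LinearMap.ext fun v => ?_
  have h2 := LinearMap.congr_fun this v
  simpa using h2.symm

omit [FiniteDimensional ℂ V] in
theorem nontrivial_of_irreducible (ρ : Representation ℂ G V) [ρ.IsIrreducible] : Nontrivial V := by
  by_contra h
  rw [not_nontrivial_iff_subsingleton] at h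
  have : Subsingleton (Subrepresentation ρ) := ⟨fun a b => Subrepresentation.ext
    (Subsingleton.elim _ _)⟩
  exact not_nontrivial (Subrepresentation ρ) IsSimpleOrder.toNontrivial

variable [Finite G]

/-- A representation whose character is that of an irreducible one is irreducible. -/
theorem isIrreducible_of_char (ρ : Representation ℂ G V) [ρ.IsIrreducible]
    (σ : Representation ℂ G W) (h : σ.character = ρ.character) : σ.IsIrreducible := by
  have := Fintype.ofFinite G
  have hne : (Nat.card G : ℂ) ≠ 0 := Nat.cast_ne_zero.mpr Nat.card_pos.ne'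
  have := invertibleOfNonzero hne
  have hfin : Module.finrank ℂ (Representation.IntertwiningMap σ σ) = 1 := by
    have h1 := Representation.card_inv_mul_sum_char_mul_char_eq_finrank σ σ
    have h2 := Representation.card_inv_mul_sum_char_mul_char_eq_finrank ρ ρ
    rw [h] at h1
    rw [Representation.IsIrreducible.finrank_intertwiningMap_self, h1] at h2
    exact_mod_cast h2
  have hW : 0 < Module.finrank ℂ W := by
    have h1 := congrFun h 1
    rw [Representation.char_one, Representation.char_one, Nat.cast_inj] at h1
    rw [h1]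
    have := nontrivial_of_irreducible ρ
    exact Module.finrank_pos
  have hWnt : Nontrivial W := Module.nontrivial_of_finrank_pos hW
  have hnt : Nontrivial (Subrepresentation σ) :=
    ⟨⊥, ⊤, fun hh => (bot_ne_top : (⊥ : Submodule ℂ W) ≠ ⊤)
      (congrArg Subrepresentation.toSubmodule hh)⟩
  have : NeZero (Nat.card G : ℂ) := ⟨hne⟩
  have hss : ComplementedLattice (Subrepresentation σ) :=
    (Representation.isSemisimpleRepresentation_iff_isSemisimpleModule_asModule σ).mpr inferInstance
  refine ⟨fun U => ?_⟩
  by_contra hU
  push Not at hU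
  obtain ⟨U', hU'⟩ := exists_isCompl U
  have hcompl : IsCompl U.toSubmodule U'.toSubmodule := by
    constructor
    · rw [disjoint_iff, ← Subrepresentation.toSubmodule_inf, hU'.inf_eq_bot]; rfl
    · rw [codisjoint_iff, ← Subrepresentation.toSubmodule_sup, hU'.sup_eq_top]; rfl
  let P : Representation.IntertwiningMap σ σ :=
    ⟨U.toSubmodule.projection U'.toSubmodule hcompl, fun g => by
      refine LinearMap.ext fun v => ?_
      obtain ⟨a, ha, b, hb, rfl⟩ : ∃ a ∈ U.toSubmodule, ∃ b ∈ U'.toSubmodule, a + b = v :=
        Submodule.mem_sup.mp (hcompl.sup_eq_top ▸ Submodule.mem_top)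
      simp [Submodule.projection_apply_of_mem_left hcompl ha,
        Submodule.projection_apply_of_mem_left hcompl (U.apply_mem_toSubmodule g ha),
        Submodule.projection_apply_of_mem_right hcompl hb,
        Submodule.projection_apply_of_mem_right hcompl (U'.apply_mem_toSubmodule g hb)]⟩
  let I : Representation.IntertwiningMap σ σ := 1
  have hI : I ≠ 0 := fun hh => by
    obtain ⟨v, hv⟩ := exists_ne (0 : W)
    apply hv
    have := congrArg (fun f : Representation.IntertwiningMap σ σ => f.toLinearMap v) hh
    simpa [I] using this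
  obtain ⟨c, hc⟩ := (finrank_eq_one_iff_of_nonzero' I hI).mp hfin P
  have hcv : ∀ v, c • v = U.toSubmodule.projection U'.toSubmodule hcompl v := fun v => by
    have := congrArg (fun f : Representation.IntertwiningMap σ σ => f.toLinearMap v) hc
    simpa [I, P] using this
  rcases eq_or_ne c 0 with rfl | hc0
  · apply hU.1
    refine Subrepresentation.toSubmodule_injective ?_
    show U.toSubmodule = ⊥
    rw [eq_bot_iff]
    intro a ha
    have := hcv a
    rw [zero_smul, Submodule.projection_apply_of_mem_left hcompl ha] at this
    exact (Submodule.mem_bot ℂ).mpr this.symm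
  · apply hU.2
    refine Subrepresentation.toSubmodule_injective ?_
    show U.toSubmodule = ⊤
    rw [eq_top_iff]
    intro v _
    have hmem : U.toSubmodule.projection U'.toSubmodule hcompl v ∈ U.toSubmodule := by simp
    rw [← hcv v] at hmem
    exact (U.toSubmodule.smul_mem_iff hc0).mp hmem

/-- Irreducible representations with equal characters are equivalent. -/
theorem exists_equiv_of_char (ρ : Representation ℂ G V) [ρ.IsIrreducible]
    (σ : Representation ℂ G W) (h : σ.character = ρ.character) :
    ∃ E : V ≃ₗ[ℂ] W, ∀ g, E.toLinearMap.comp (ρ g) = (σ g).comp E.toLinearMap := by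
  have := isIrreducible_of_char ρ σ h
  have := Fintype.ofFinite G
  have := invertibleOfNonzero (Nat.cast_ne_zero.mpr Nat.card_pos.ne' : (Nat.card G : ℂ) ≠ 0)
  have h1 := Representation.char_orthonormal σ ρ
  have h2 := Representation.char_orthonormal ρ ρ
  rw [if_pos ⟨Representation.Equiv.refl _⟩] at h2
  rw [h, h2] at h1
  split_ifs at h1 with hne
  · obtain ⟨φ⟩ := hne
    exact ⟨φ.toLinearEquiv, fun g => φ.toIntertwiningMap.isIntertwining' g⟩
  · exact absurd h1 one_ne_zero

theorem det_eq_of_char (ρ : Representation ℂ G V) [ρ.IsIrreducible]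
    (σ : Representation ℂ G W) (h : σ.character = ρ.character) (g : G) :
    LinearMap.det (σ g) = LinearMap.det (ρ g) := by
  obtain ⟨E, hE⟩ := exists_equiv_of_char ρ σ h
  have : σ g = E.toLinearMap.comp ((ρ g).comp E.symm.toLinearMap) := by
    rw [← LinearMap.comp_assoc, hE g, LinearMap.comp_assoc]
    simp
  rw [this, LinearMap.det_conj]

theorem detChar_eq {n : ℕ} (ρ : Representation ℂ G (Fin n → ℂ)) [ρ.IsIrreducible] :
    Cfsg.detChar ρ.character = fun g => LinearMap.det (ρ g) := by
  have h : Cfsg.IsCharacter G ρ.character := ⟨n, ρ, rfl⟩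
  rw [Cfsg.detChar, dif_pos h]
  funext g
  exact det_eq_of_char ρ _ (Classical.choose_spec (Classical.choose_spec h)) g

omit [Finite G] [FiniteDimensional ℂ V] in
/-- The determinant as a homomorphism to `ℂˣ`. -/
noncomputable def detHom (ρ : Representation ℂ G V) : G →* ℂˣ :=
  (LinearMap.det.comp ρ).toHomUnits

omit [Finite G] [FiniteDimensional ℂ V] in
theorem detHom_apply (ρ : Representation ℂ G V) (g : G) :
    (detHom ρ g : ℂ) = LinearMap.det (ρ g) := rfl

end Cfsg.Agent.Lib.Clifford.Rep
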