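import Cfsg.Agent.Lib.Clifford.Linear
import Cfsg.Agent.Lib.Clifford.Rep

/-!
# Extension of an invariant irreducible character of degree prime to the index

`exists_extension_det`: if `ρ` is irreducible on `N ⊴ G`, its character is `G`-invariant, its
degree is prime to `[G : N]` and `μ` is a linear character of `G` extending `det ρ`, then `ρ`
extends to a representation of `G` with determinant `μ`; it is unique (`extension_unique`).
No solvability is needed.
-/

set_option autoImplicit false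

namespace Cfsg.Agent.Lib.Clifford.Extension

open Cfsg.Agent.Lib.Clifford

universe u v

variable {G : Type u} [Group G] [Finite G] (N : Subgroup G) [hN : N.Normal]
  {V : Type v} [AddCommGroup V] [Module ℂ V] [FiniteDimensional ℂ V]
  (ρ : Representation ℂ N V) [ρ.IsIrreducible]

/-- Conjugation of a representation of a normal subgroup. -/
def conjRep (g : G) : Representation ℂ N V :=
  ρ.comp (MulAut.conjNormal g).toMonoidHom

omit [Finite G] [FiniteDimensional ℂ V] [ρ.IsIrreducible] in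
theorem conjRep_apply (g : G) (n : N) :
    conjRep N ρ g n = ρ ⟨g * n * g⁻¹, hN.conj_mem (n : G) n.2 g⟩ := rfl

/-- An intertwiner with prescribed determinant. -/
theorem exists_intertwiner (g : G) (t : ℂˣ)
    (hinv : (conjRep N ρ g).character = ρ.character) :
    ∃ A : Module.End ℂ V, LinearMap.det A = (t : ℂ) ∧
      ∀ n : N, A * ρ n = ρ ⟨g * n * g⁻¹, hN.conj_mem (n : G) n.2 g⟩ * A := by
  obtain ⟨E, hE⟩ := Rep.exists_equiv_of_char ρ (conjRep N ρ g) hinv
  have hd : 0 < Module.finrank ℂ V := by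
    have := Rep.nontrivial_of_irreducible ρ
    exact Module.finrank_pos
  have hdet : LinearMap.det E.toLinearMap ≠ 0 := (LinearEquiv.isUnit_det' E).ne_zero
  obtain ⟨c, hc⟩ := IsAlgClosed.exists_pow_nat_eq ((t : ℂ) / LinearMap.det E.toLinearMap) hd
  refine ⟨c • E.toLinearMap, ?_, fun n => ?_⟩
  · rw [LinearMap.det_smul, hc, div_mul_cancel₀ _ hdet]
  · rw [smul_mul_assoc, mul_smul_comm, Module.End.mul_eq_comp, Module.End.mul_eq_comp, hE n]
    rfl

/-- Gallagher: the determinant criterion for extendibility. -/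
theorem exists_extension_det
    (hinv : ∀ g : G, (conjRep N ρ g).character = ρ.character)
    (hcop : Nat.Coprime N.index (Module.finrank ℂ V)) (μ : G →* ℂˣ)
    (hμ : ∀ n : N, (μ n : ℂ) = LinearMap.det (ρ n)) :
    ∃ σ : Representation ℂ G V, (∀ n : N, σ n = ρ n) ∧ ∀ g, LinearMap.det (σ g) = μ g := by
  classical
  set d := Module.finrank ℂ V
  choose A₀ hA₀det hA₀ using fun g : G => exists_intertwiner N ρ g (μ g) (hinv g)
  -- representatives
  let r : G → G := fun g => (QuotientGroup.mk (s := N) g).out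
  have hr : ∀ g : G, (r g)⁻¹ * g ∈ N := fun g => by
    rw [← QuotientGroup.eq]
    exact QuotientGroup.out_eq' (QuotientGroup.mk (s := N) g)
  have hrm : ∀ (g : G) (n : N), r (g * n) = r g := fun g n => by
    simp only [r]
    congr 1
    exact QuotientGroup.eq.mpr (by simp)
  let A : G → Module.End ℂ V := fun g => A₀ (r g) * ρ ⟨(r g)⁻¹ * g, hr g⟩
  have hAdet : ∀ g, LinearMap.det (A g) = (μ g : ℂ) := fun g => by
    simp only [A]
    rw [map_mul, hA₀det, ← hμ, ← Units.val_mul, ← map_mul, mul_inv_cancel_left]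
  have hAne : ∀ g, LinearMap.det (A g) ≠ 0 := fun g => by rw [hAdet]; exact Units.ne_zero _
  have hAright : ∀ (g : G) (n : N), A (g * n) = A g * ρ n := fun g n => by
    simp only [A]
    rw [mul_assoc, ← map_mul]
    congr 2
    · exact hrm g n
    · refine Subtype.ext ?_
      simp [hrm g n, mul_assoc]
  have hAint : ∀ (g : G) (n : N),
      A g * ρ n = ρ ⟨g * n * g⁻¹, hN.conj_mem (n : G) n.2 g⟩ * A g := fun g n => by
    have h1 := hA₀ (r g) (⟨(r g)⁻¹ * g, hr g⟩ * n * ⟨(r g)⁻¹ * g, hr g⟩⁻¹)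
    have e1 : (⟨r g * ((⟨(r g)⁻¹ * g, hr g⟩ * n * ⟨(r g)⁻¹ * g, hr g⟩⁻¹ : N) : G) * (r g)⁻¹,
        hN.conj_mem _ (Subtype.property _) _⟩ : N) = ⟨g * n * g⁻¹, hN.conj_mem (n : G) n.2 g⟩ := by
      refine Subtype.ext ?_
      simp [mul_assoc]
    rw [e1] at h1
    have h2 : ρ ⟨(r g)⁻¹ * g, hr g⟩ * ρ n
        = ρ (⟨(r g)⁻¹ * g, hr g⟩ * n * ⟨(r g)⁻¹ * g, hr g⟩⁻¹) * ρ ⟨(r g)⁻¹ * g, hr g⟩ := by
      rw [← map_mul, ← map_mul, inv_mul_cancel_right]
    simp only [A]
    rw [mul_assoc, h2, ← mul_assoc, h1, mul_assoc]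
  -- the cocycle
  have hc0 : ∀ g h : G, ∃ c : ℂˣ, A g * A h = (c : ℂ) • A (g * h) := by
    intro g h
    obtain ⟨u, hu⟩ : IsUnit (A (g * h)) :=
      LinearMap.isUnit_iff_isUnit_det _ |>.mpr (Ne.isUnit (hAne _))
    have hB : ∀ n : N, (↑u⁻¹ * (A g * A h)) * ρ n = ρ n * (↑u⁻¹ * (A g * A h)) := by
      intro n
      have hx : A g * A h * ρ n
          = ρ ⟨(g * h) * n * (g * h)⁻¹, hN.conj_mem (n : G) n.2 _⟩ * (A g * A h) := by
        rw [mul_assoc, hAint h, ← mul_assoc, hAint g, mul_assoc]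
        congr 2
        exact Subtype.ext (by simp [mul_assoc])
      have hy := hAint (g * h) n
      rw [← hu] at hy
      rw [mul_assoc, hx, ← mul_assoc]
      rw [← mul_assoc (ρ n)]
      congr 1
      calc ↑u⁻¹ * ρ ⟨(g * h) * n * (g * h)⁻¹, hN.conj_mem (n : G) n.2 _⟩
          = ↑u⁻¹ * (ρ ⟨(g * h) * n * (g * h)⁻¹, hN.conj_mem (n : G) n.2 _⟩ * ↑u) * ↑u⁻¹ := by
            simp [mul_assoc]
        _ = ↑u⁻¹ * (↑u * ρ n) * ↑u⁻¹ := by rw [hy]
        _ = ρ n * ↑u⁻¹ := by simp [← mul_assoc]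
    obtain ⟨c, hc⟩ := Rep.schur ρ _ hB
    have hcA : A g * A h = c • A (g * h) := by
      rw [← hu]
      calc A g * A h = ↑u * (↑u⁻¹ * (A g * A h)) := by simp [← mul_assoc]
        _ = c • (↑u : Module.End ℂ V) := by rw [hc, mul_smul_comm, mul_one]
    refine ⟨Units.mk0 c ?_, hcA⟩
    rintro rfl
    rw [zero_smul] at hcA
    have h3 := congrArg LinearMap.det hcA
    rw [map_mul] at h3
    have hd : LinearMap.det (0 : Module.End ℂ V) = 0 := by
      have := Rep.nontrivial_of_irreducible ρ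
      rw [← zero_smul ℂ (1 : Module.End ℂ V), LinearMap.det_smul, zero_pow Module.finrank_pos.ne',
        zero_mul]
    rw [hd] at h3
    exact mul_ne_zero (hAne g) (hAne h) h3
  choose c hc using hc0
  have cancel : ∀ (g : G) {a b : ℂˣ}, (a : ℂ) • A g = (b : ℂ) • A g → a = b := by
    intro g a b hab
    have hne : A g ≠ 0 := fun h0 => by
      have := Rep.nontrivial_of_irreducible ρ
      apply hAne g
      rw [h0, ← zero_smul ℂ (1 : Module.End ℂ V), LinearMap.det_smul,
        zero_pow Module.finrank_pos.ne', zero_mul]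
    exact Units.ext (smul_left_injective ℂ hne hab)
  have hcd : ∀ g h, c g h ^ d = 1 := by
    intro g h
    have := congrArg LinearMap.det (hc g h)
    rw [map_mul, LinearMap.det_smul, hAdet, hAdet, hAdet, map_mul, Units.val_mul] at this
    refine Units.ext ?_
    rw [Units.val_pow_eq_pow_val, Units.val_one]
    exact (mul_eq_right₀ (mul_ne_zero (Units.ne_zero _) (Units.ne_zero _))).mp this.symm
  have hcassoc : ∀ g h k, c g h * c (g * h) k = c h k * c g (h * k) := by
    intro g h k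
    apply cancel (g * h * k)
    have h1 : A g * A h * A k = ((c g h * c (g * h) k : ℂˣ) : ℂ) • A (g * h * k) := by
      rw [hc, smul_mul_assoc, hc, smul_smul, Units.val_mul]
    have h2 : A g * A h * A k = ((c h k * c g (h * k) : ℂˣ) : ℂ) • A (g * h * k) := by
      rw [mul_assoc (A g), hc h k, mul_smul_comm, hc, smul_smul, Units.val_mul, mul_assoc g]
    rw [← h1, ← h2]
  have hcr : ∀ (g h : G) (n : N), c g (h * n) = c g h := by
    intro g h n
    apply cancel (g * (h * n))
    rw [← hc, hAright, ← mul_assoc, hc, smul_mul_assoc, ← hAright, mul_assoc g]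
  have hcl : ∀ (g h : G) (n : N), c (g * n) h = c g h := by
    intro g h n
    have e : g * n * h = g * h * ((⟨h⁻¹ * n * h, by
      simpa using hN.conj_mem (n : G) n.2 h⁻¹⟩ : N) : G) := by simp [mul_assoc]
    apply cancel (g * n * h)
    rw [← hc, hAright, mul_assoc, e, hAright]
    rw [show ρ n * A h = A h * ρ ⟨h⁻¹ * n * h, by simpa using hN.conj_mem (n : G) n.2 h⁻¹⟩ by
      rw [hAint h]; congr 2; exact Subtype.ext (by simp [mul_assoc])]
    rw [← mul_assoc, hc, smul_mul_assoc]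
  have : Fintype (G ⧸ N) := Fintype.ofFinite _
  let f : G → ℂˣ := fun g => ∏ q : G ⧸ N, c g q.out
  have hf : ∀ g h, c g h ^ N.index * f (g * h) = f h * f g := by
    intro g h
    simp only [f]
    have e1 : ∏ q : G ⧸ N, c g q.out = ∏ q : G ⧸ N, c g (h * q.out) := by
      symm
      refine Fintype.prod_equiv (MulAction.toPerm h) _ _ fun q => ?_
      obtain ⟨n, hn⟩ : ∃ n : N, h * q.out = (h • q).out * n := by
        refine ⟨⟨(h • q).out⁻¹ * (h * q.out), ?_⟩, by simp⟩
        rw [← QuotientGroup.eq, QuotientGroup.out_eq']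
        conv_lhs => rw [← QuotientGroup.out_eq' q]
        rfl
      rw [hn, hcr]
      rfl
    rw [e1, Subgroup.index_eq_card, Nat.card_eq_fintype_card, ← Finset.card_univ,
      ← Finset.prod_const, ← Finset.prod_mul_distrib, ← Finset.prod_mul_distrib]
    exact Finset.prod_congr rfl fun q _ => hcassoc g h q.out
  have hfd : ∀ g, f g ^ d = 1 := fun g => by
    rw [← Finset.prod_pow]
    exact Finset.prod_eq_one fun q _ => hcd _ _
  obtain ⟨a, ha⟩ := Linear.exists_mul_index_of_coprime hcop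
  let σ₀ : G → Module.End ℂ V := fun g => (((f g ^ a)⁻¹ : ℂˣ) : ℂ) • A g
  have hmul : ∀ g h, σ₀ (g * h) = σ₀ g * σ₀ h := by
    intro g h
    simp only [σ₀]
    rw [smul_mul_assoc, mul_smul_comm, hc, smul_smul, smul_smul, ← Units.val_mul,
      ← Units.val_mul]
    congr 2
    have hcf : c g h = (f h * f g / f (g * h)) ^ a := by
      rw [← hf, mul_div_assoc, div_self', mul_one]
      exact (Linear.zpow_zpow_eq_self (hcd g h) ha).symm
    rw [hcf, div_zpow, mul_zpow]
    simp [div_eq_mul_inv, mul_comm, mul_left_comm, mul_assoc]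
  have hσdet : ∀ g, LinearMap.det (σ₀ g) = μ g := fun g => by
    simp only [σ₀]
    rw [LinearMap.det_smul, hAdet, ← Units.val_pow_eq_pow_val, inv_pow]
    show (((f g ^ a) ^ d)⁻¹ : ℂˣ).val * _ = _
    rw [← zpow_natCast, ← zpow_mul, mul_comm a, zpow_mul, zpow_natCast, hfd, one_zpow, inv_one,
      Units.val_one, one_mul]
  have hone : σ₀ 1 = 1 := by
    obtain ⟨u, hu⟩ : IsUnit (σ₀ 1) := LinearMap.isUnit_iff_isUnit_det _ |>.mpr (by
      rw [hσdet]; exact Units.isUnit _)
    have h1 := hmul 1 1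
    rw [one_mul, ← hu] at h1
    rw [← hu]
    calc (u : Module.End ℂ V) = ↑u⁻¹ * (↑u * ↑u) := by simp [← mul_assoc]
      _ = ↑u⁻¹ * ↑u := by rw [← h1]
      _ = 1 := Units.inv_mul u
  refine ⟨{ toFun := σ₀, map_one' := hone, map_mul' := hmul }, fun n => ?_, hσdet⟩
  show σ₀ n = ρ n
  have hfn : f n = f 1 := by
    simp only [f]
    refine Finset.prod_congr rfl fun q _ => ?_
    have := hcl 1 q.out n
    rwa [one_mul] at this
  have hAn : A n = A 1 * ρ n := by
    have := hAright 1 n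
    rwa [one_mul] at this
  calc σ₀ n = σ₀ 1 * ρ n := by simp only [σ₀]; rw [hfn, hAn, smul_mul_assoc]
    _ = ρ n := by rw [hone, one_mul]

omit [Finite G] hN [FiniteDimensional ℂ V] in
theorem isIrreducible_of_restrict (σ : Representation ℂ G V) (h : ∀ n : N, σ n = ρ n) :
    σ.IsIrreducible := by
  have := Rep.nontrivial_of_irreducible ρ
  have hnt : Nontrivial (Subrepresentation σ) :=
    ⟨⊥, ⊤, fun hh => (bot_ne_top : (⊥ : Submodule ℂ V) ≠ ⊤)
      (congrArg Subrepresentation.toSubmodule hh)⟩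
  refine ⟨fun U => ?_⟩
  let U' : Subrepresentation ρ :=
    ⟨U.toSubmodule, fun n v hv => h n ▸ U.apply_mem_toSubmodule (n : G) hv⟩
  rcases eq_bot_or_eq_top U' with hh | hh
  · left
    apply Subrepresentation.toSubmodule_injective
    show U'.toSubmodule = _
    rw [hh]
    rfl
  · right
    apply Subrepresentation.toSubmodule_injective
    show U'.toSubmodule = _
    rw [hh]
    rfl

omit [Finite G] in
/-- Two extensions with the same determinant coincide. -/
theorem extension_unique (hcop : Nat.Coprime N.index (Module.finrank ℂ V))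
    (σ σ' : Representation ℂ G V) (h : ∀ n : N, σ n = ρ n) (h' : ∀ n : N, σ' n = ρ n)
    (hdet : ∀ g, LinearMap.det (σ g) = LinearMap.det (σ' g)) : σ = σ' := by
  have key : ∀ g, ∃ c : ℂ, σ' g = c • σ g := by
    intro g
    have hB : ∀ n : N, (σ g⁻¹ * σ' g) * ρ n = ρ n * (σ g⁻¹ * σ' g) := by
      intro n
      let m : N := ⟨g * n * g⁻¹, hN.conj_mem (n : G) n.2 g⟩
      have e1 : σ' g * ρ n = ρ m * σ' g := by
        rw [← h' n, ← h' m, ← map_mul, ← map_mul]; simp [m]
      have e2 : σ g⁻¹ * ρ m = ρ n * σ g⁻¹ := by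
        rw [← h n, ← h m, ← map_mul, ← map_mul]; simp [m, mul_assoc]
      rw [mul_assoc, e1, ← mul_assoc, e2, mul_assoc]
    obtain ⟨c, hc⟩ := Rep.schur ρ _ hB
    refine ⟨c, ?_⟩
    calc σ' g = σ g * (σ g⁻¹ * σ' g) := by rw [← mul_assoc, ← map_mul]; simp
      _ = c • σ g := by rw [hc, mul_smul_comm, mul_one]
  choose c hc using key
  have hne : ∀ g, LinearMap.det (σ g) ≠ 0 := fun g => by
    rw [← Rep.detHom_apply]; exact Units.ne_zero _
  have hnz : ∀ g, σ g ≠ 0 := fun g h0 => by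
    have := Rep.nontrivial_of_irreducible ρ
    apply hne g
    rw [h0, ← zero_smul ℂ (1 : Module.End ℂ V), LinearMap.det_smul,
      zero_pow Module.finrank_pos.ne', zero_mul]
  let χ : G →* ℂ :=
    { toFun := c
      map_one' := smul_left_injective ℂ (hnz 1) (by show c 1 • σ 1 = (1 : ℂ) • σ 1; rw [← hc]; simp)
      map_mul' := fun g k => smul_left_injective ℂ (hnz (g * k)) (by
        show c (g * k) • σ (g * k) = (c g * c k) • σ (g * k)
        rw [← hc, map_mul, map_mul, hc, hc, smul_mul_assoc, mul_smul_comm, smul_smul]) }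
  have hd : ∀ g, χ g ^ Module.finrank ℂ V = 1 := by
    intro g
    have := hdet g
    rw [hc g, LinearMap.det_smul] at this
    exact (mul_eq_right₀ (hne g)).mp this.symm
  have hm : ∀ g, χ g ^ N.index = 1 := by
    intro g
    rw [← map_pow]
    refine smul_left_injective ℂ (hnz (g ^ N.index)) ?_
    show c (g ^ N.index) • σ (g ^ N.index) = (1 : ℂ) • σ (g ^ N.index)
    rw [← hc, one_smul]
    exact (h' ⟨_, Subgroup.pow_index_mem N g⟩).trans (h ⟨_, Subgroup.pow_index_mem N g⟩).symm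
  refine MonoidHom.ext fun g => ?_
  have h1 : c g = 1 := orderOf_eq_one_iff.mp (Nat.eq_one_of_dvd_coprimes hcop
    (orderOf_dvd_of_pow_eq_one (hm g)) (orderOf_dvd_of_pow_eq_one (hd g)))
  rw [hc g, h1, one_smul]

/-- Extension with given determinant, on the level of `Cfsg` characters. -/
theorem exists_extension_char {ϑ : N → ℂ} (hϑ : Cfsg.IsIrrCharacter N ϑ)
    (hinv : ∀ (g : G) (n : N), ϑ ⟨g * n * g⁻¹, hN.conj_mem (n : G) n.2 g⟩ = ϑ n)
    {d : ℕ} (hd : ϑ 1 = d) (hcop : Nat.Coprime N.index d) (μ : G →* ℂˣ)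
    (hμ : ∀ n : N, (μ n : ℂ) = Cfsg.detChar ϑ n) :
    ∃ χ : G → ℂ, Cfsg.IsIrrCharacter G χ ∧ (∀ n : N, χ n = ϑ n) ∧
      Cfsg.detChar χ = Linear.toFunHom μ := by
  obtain ⟨k, ρ, hρ, rfl⟩ := hϑ
  have hk : k = d := by
    rw [Representation.char_one, Module.finrank_fin_fun, Nat.cast_inj] at hd
    exact hd
  obtain ⟨σ, hσ, hσdet⟩ := exists_extension_det N ρ
    (fun g => funext fun n => hinv g n)
    (by rw [Module.finrank_fin_fun, hk]; exact hcop) μ
    (fun n => by rw [hμ, Rep.detChar_eq ρ])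
  have := isIrreducible_of_restrict N ρ σ hσ
  refine ⟨σ.character, ⟨k, σ, this, rfl⟩, fun n => ?_, ?_⟩
  · show LinearMap.trace ℂ _ (σ n) = _
    rw [hσ]
    rfl
  · rw [Rep.detChar_eq σ]
    funext g
    exact hσdet g

/-- The determinantal character of an irreducible character as a homomorphism. -/
theorem exists_detHom {H : Type u} [Group H] [Finite H] {χ : H → ℂ}
    (hχ : Cfsg.IsIrrCharacter H χ) :
    ∃ μ : H →* ℂˣ, Linear.toFunHom μ = Cfsg.detChar χ := by
  obtain ⟨k, σ, hσ, rfl⟩ := hχ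
  exact ⟨Rep.detHom σ, by rw [Rep.detChar_eq σ]; rfl⟩

omit hN in
theorem detChar_restrict {χ : G → ℂ} (hχ : Cfsg.IsIrrCharacter G χ) {ϑ : N → ℂ}
    (hϑ : Cfsg.IsIrrCharacter N ϑ) (h : ∀ n : N, χ n = ϑ n) (n : N) :
    Cfsg.detChar ϑ n = Cfsg.detChar χ n := by
  obtain ⟨k, σ, hσ, rfl⟩ := hχ
  obtain ⟨j, ρ, hρ, rfl⟩ := hϑ
  rw [Rep.detChar_eq σ, Rep.detChar_eq ρ]
  exact (Rep.det_eq_of_char ρ (σ.comp N.subtype) (funext fun m => h m) n).symm

theorem extension_unique_char {ϑ : N → ℂ} (hϑ : Cfsg.IsIrrCharacter N ϑ)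
    {d : ℕ} (hd : ϑ 1 = d) (hcop : Nat.Coprime N.index d) {χ χ' : G → ℂ}
    (hχ : Cfsg.IsIrrCharacter G χ) (hχ' : Cfsg.IsIrrCharacter G χ')
    (h : ∀ n : N, χ n = ϑ n) (h' : ∀ n : N, χ' n = ϑ n)
    (hdet : Cfsg.detChar χ = Cfsg.detChar χ') : χ = χ' := by
  obtain ⟨k, ρ, hρ, rfl⟩ := hϑ
  obtain ⟨k₁, σ, hσ, rfl⟩ := hχ
  obtain ⟨k₂, σ', hσ', rfl⟩ := hχ'
  have hk : k = d := by
    rw [Representation.char_one, Module.finrank_fin_fun, Nat.cast_inj] at hd
    exact hd
  -- move `σ` and `σ'` to the space of `ρ`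
  have key : ∀ {j : ℕ} (τ : Representation ℂ G (Fin j → ℂ)), τ.IsIrreducible →
      (∀ n : N, τ.character n = ρ.character n) →
      ∃ τ' : Representation ℂ G (Fin k → ℂ), (∀ n : N, τ' n = ρ n) ∧
        τ'.character = τ.character ∧ ∀ g, LinearMap.det (τ' g) = LinearMap.det (τ g) := by
    intro j τ _ hτ
    obtain ⟨E, hE⟩ := Rep.exists_equiv_of_char ρ (τ.comp N.subtype) (funext hτ)
    refine ⟨{ toFun := fun g => E.symm.conj (τ g), map_one' := by rw [map_one, Module.End.one_eq_id, LinearEquiv.conj_id]; rfl,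
              map_mul' := fun g g' => by simp [LinearEquiv.conj_apply, Module.End.mul_eq_comp,
                LinearMap.comp_assoc] },
      fun n => ?_, funext fun g => ?_, fun g => ?_⟩
    · show E.symm.conj (τ n) = ρ n
      refine LinearMap.ext fun v => ?_
      have h1 := LinearMap.congr_fun (hE n) v
      simp only [LinearMap.comp_apply, LinearEquiv.coe_coe, MonoidHom.coe_comp,
        Function.comp_apply, Subgroup.coe_subtype] at h1
      simp [LinearEquiv.conj_apply, ← h1]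
    · exact LinearMap.trace_conj' (τ g) E.symm
    · exact LinearMap.det_conj (τ g) E.symm
  obtain ⟨τ, hτ, hτc, hτd⟩ := key σ hσ h
  obtain ⟨τ', hτ', hτc', hτd'⟩ := key σ' hσ' h'
  rw [← hτc, ← hτc', extension_unique N ρ (by rw [Module.finrank_fin_fun, hk]; exact hcop) τ τ'
    hτ hτ' (fun g => ?_)]
  rw [hτd, hτd']
  rw [Rep.detChar_eq σ, Rep.detChar_eq σ'] at hdet
  exact congrFun hdet g

end Cfsg.Agent.Lib.Clifford.Extension
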