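import Cfsg.Agent.Lib.Clifford.Basic
import Cfsg.Agent.Lib.Clifford.Rep
import Cfsg.Agent.Lib.Characters.Complete

/-!
# Gallagher's theorem

`gallagher`: if `φ, ϑ` are invariant irreducible characters of `N`, `φ * ϑ` is irreducible and `χ`
extends `ϑ`, then `β ↦ β * χ` maps the characters over `φ` bijectively to those over `φ * ϑ`.
Also: coset averages of `ψ * conj χ`.
-/

set_option autoImplicit false

namespace Cfsg.Agent.Lib.Clifford.Gallagher

open scoped ComplexConjugate
open Cfsg.Agent.Lib.Induced.Basic Cfsg.Agent.Lib.Characters.Basic Cfsg.Agent.Lib.Characters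
open Cfsg.Agent.Lib.Clifford.Basic

universe u

variable {G : Type u} [Group G] [Fintype G] (N : Subgroup G) [hN : N.Normal]

/-- A character of norm zero vanishes at one. -/
theorem classInner_self_ne_zero {φ : G → ℂ} (h : φ 1 ≠ 0) : Cfsg.classInner φ φ ≠ 0 := by
  rw [Cfsg.classInner]
  refine mul_ne_zero (inv_ne_zero natCard_ne_zero) ?_
  simp only [Complex.mul_conj]
  rw [← Complex.ofReal_sum, Complex.ofReal_ne_zero]
  refine ne_of_gt (Finset.sum_pos' (fun g _ => Complex.normSq_nonneg _) ⟨1, Finset.mem_univ _, ?_⟩)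
  exact Complex.normSq_pos.mpr h

/-- The norm of the function induced from an invariant irreducible character. -/
theorem classInner_indFun_self [Fintype N] (φ : Cfsg.IrrCharacter N)
    (hinv : ∀ g, conjC N g φ = (φ : N → ℂ)) :
    Cfsg.classInner (Cfsg.indFun N (φ : N → ℂ)) (Cfsg.indFun N (φ : N → ℂ)) = (N.index : ℂ) := by
  rw [frobenius_reciprocity N _ (isClassFunction_indFun N _), indFun_restrict_normal]
  simp only [hinv, Finset.sum_const, Finset.card_univ, ← Nat.cast_smul_eq_nsmul ℂ, smul_smul]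
  rw [classInner_smul_right, classInner_self_irr, mul_one, map_mul, map_inv₀, map_natCast,
    map_natCast, Fintype.card_eq_nat_card, ← N.index_mul_card, Nat.cast_mul, mul_comm,
    mul_inv_cancel_right₀ (subgroup_card_ne_zero N)]

/-- Gallagher's theorem. -/
theorem gallagher (φ ϑ : N → ℂ) (hφ : Cfsg.IsIrrCharacter N φ)
    (hφinv : ∀ g, conjC N g φ = φ) (hϑinv : ∀ g, conjC N g ϑ = ϑ)
    (hprod : Cfsg.IsIrrCharacter N (φ * ϑ)) {χ : G → ℂ} (hχ : Cfsg.IsIrrCharacter G χ)
    (hext : ∀ n : N, χ n = ϑ n) :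
    (∀ β : Cfsg.IrrCharacter G, Cfsg.classInner (Cfsg.indFun N φ) β ≠ 0 →
        Cfsg.IsIrrCharacter G ((β : G → ℂ) * χ) ∧
        Cfsg.classInner (Cfsg.indFun N (φ * ϑ)) ((β : G → ℂ) * χ) ≠ 0) ∧
    (∀ β γ : Cfsg.IrrCharacter G, Cfsg.classInner (Cfsg.indFun N φ) β ≠ 0 →
        Cfsg.classInner (Cfsg.indFun N φ) γ ≠ 0 → (β : G → ℂ) * χ = (γ : G → ℂ) * χ → β = γ) ∧
    (∀ ψ : Cfsg.IrrCharacter G, Cfsg.classInner (Cfsg.indFun N (φ * ϑ)) ψ ≠ 0 →
        ∃ β : Cfsg.IrrCharacter G, Cfsg.classInner (Cfsg.indFun N φ) β ≠ 0 ∧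
          (ψ : G → ℂ) = (β : G → ℂ) * χ) := by
  classical
  have := Fintype.ofFinite (Cfsg.IrrCharacter G)
  have := Fintype.ofFinite N
  have hindc : Cfsg.IsCharacter G (Cfsg.indFun N φ) :=
    Lib.Induced.Character.isCharacter_indFun N (IsCharacter_of_isIrrCharacter hφ)
  choose e he using fun β : Cfsg.IrrCharacter G => exists_classInner_nat hindc (isCharacter_irr β)
  have hχc := IsCharacter_of_isIrrCharacter hχ
  have hbc : ∀ β : Cfsg.IrrCharacter G, Cfsg.IsCharacter G ((β : G → ℂ) * χ) :=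
    fun β => isCharacter_mul (isCharacter_irr β) hχc
  choose a ha using fun β γ : Cfsg.IrrCharacter G => exists_classInner_nat (hbc β) (hbc γ)
  have hdec : Cfsg.indFun N φ = ∑ β : Cfsg.IrrCharacter G, (e β : ℂ) • (β : G → ℂ) := by
    simp only [← he]
    exact Complete.classFunction_eq_sum (isClassFunction_indFun N φ)
  have hdec' : Cfsg.indFun N (φ * ϑ)
      = ∑ β : Cfsg.IrrCharacter G, (e β : ℂ) • ((β : G → ℂ) * χ) := by
    have h1 := indFun_mul_restrict N φ (isClassFunction_of_isCharacter hχc)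
    simp only [hext] at h1
    show Cfsg.indFun N (fun n => φ n * ϑ n) = _
    rw [h1]
    funext g
    rw [hdec]
    simp [Finset.sum_apply, Finset.sum_mul, mul_assoc]
  have hinner : ∀ ψ : G → ℂ, Cfsg.classInner (Cfsg.indFun N (φ * ϑ)) ψ
      = ∑ β : Cfsg.IrrCharacter G, (e β : ℂ) * Cfsg.classInner ((β : G → ℂ) * χ) ψ := fun ψ => by
    rw [hdec', classInner_sum_left]
    simp only [classInner_smul_left]
  have hm1 : ∑ β : Cfsg.IrrCharacter G, e β * e β = N.index := by
    have h := classInner_indFun_self N ⟨φ, hφ⟩ hφinv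
    have h2 : Cfsg.classInner (Cfsg.indFun N φ) (Cfsg.indFun N φ)
        = ∑ β : Cfsg.IrrCharacter G, ((e β * e β : ℕ) : ℂ) := by
      conv_lhs => rw [hdec, classInner_sum_left]
      refine Finset.sum_congr rfl fun β _ => ?_
      rw [classInner_smul_left, Nat.cast_mul, ← hdec]
      congr 1
      rw [← classInner_conj_symm, he, map_natCast]
    rw [h2] at h
    exact_mod_cast h
  have hm2 : ∑ p : Cfsg.IrrCharacter G × Cfsg.IrrCharacter G, e p.1 * e p.2 * a p.1 p.2
      = N.index := by
    have h := classInner_indFun_self N ⟨φ * ϑ, hprod⟩ (fun g => by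
      funext n
      show conjC N g φ n * conjC N g ϑ n = φ n * ϑ n
      rw [hφinv, hϑinv])
    have h2 : Cfsg.classInner (Cfsg.indFun N (φ * ϑ)) (Cfsg.indFun N (φ * ϑ))
        = ∑ p : Cfsg.IrrCharacter G × Cfsg.IrrCharacter G,
            ((e p.1 * e p.2 * a p.1 p.2 : ℕ) : ℂ) := by
      rw [hinner, Fintype.sum_prod_type]
      refine Finset.sum_congr rfl fun β _ => ?_
      rw [hdec', classInner_sum_right, Finset.mul_sum]
      refine Finset.sum_congr rfl fun γ _ => ?_
      rw [classInner_smul_right, map_natCast, ha]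
      push_cast
      ring
    rw [h2] at h
    exact_mod_cast h
  have hdiag : ∀ β, 1 ≤ a β β := fun β => by
    refine Nat.one_le_iff_ne_zero.mpr fun h => classInner_self_ne_zero
      (φ := (β : G → ℂ) * χ) (mul_ne_zero (degree_pos β.2) (degree_pos hχ)) ?_
    rw [ha, h, Nat.cast_zero]
  have key : ∀ p : Cfsg.IrrCharacter G × Cfsg.IrrCharacter G,
      (if p.1 = p.2 then e p.1 * e p.1 else 0) = e p.1 * e p.2 * a p.1 p.2 := by
    have hle : ∀ p ∈ (Finset.univ : Finset (Cfsg.IrrCharacter G × Cfsg.IrrCharacter G)),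
        (if p.1 = p.2 then e p.1 * e p.1 else 0) ≤ e p.1 * e p.2 * a p.1 p.2 := by
      intro p _
      split_ifs with h
      · rw [← h]
        exact Nat.le_mul_of_pos_right _ (hdiag _)
      · exact Nat.zero_le _
    have heq : ∑ p : Cfsg.IrrCharacter G × Cfsg.IrrCharacter G,
        (if p.1 = p.2 then e p.1 * e p.1 else 0) = N.index := by
      rw [Fintype.sum_prod_type, ← hm1]
      exact Finset.sum_congr rfl fun β _ => by rw [Finset.sum_ite_eq]; simp
    exact fun p => (Finset.sum_eq_sum_iff_of_le hle).mp (heq.trans hm2.symm) p (Finset.mem_univ p)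
  have hpos : ∀ β : Cfsg.IrrCharacter G, Cfsg.classInner (Cfsg.indFun N φ) β ≠ 0 → e β ≠ 0 :=
    fun β h h0 => h (by rw [he, h0, Nat.cast_zero])
  have hirr : ∀ β : Cfsg.IrrCharacter G, e β ≠ 0 → Cfsg.IsIrrCharacter G ((β : G → ℂ) * χ) := by
    intro β hβ
    have h := key (β, β)
    rw [if_pos rfl] at h
    have h1 : a β β = 1 := by
      have : e β * e β * 1 = e β * e β * a β β := by rw [mul_one]; exact h
      exact (Nat.eq_of_mul_eq_mul_left (Nat.pos_of_ne_zero (mul_ne_zero hβ hβ)) this).symm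
    exact isIrrCharacter_of_classInner_self (hbc β) (by rw [ha, h1, Nat.cast_one])
  have hoff : ∀ β γ : Cfsg.IrrCharacter G, e β ≠ 0 → e γ ≠ 0 → β ≠ γ → a β γ = 0 := by
    intro β γ hβ hγ hne
    have h := key (β, γ)
    rw [if_neg hne, eq_comm, mul_eq_zero] at h
    exact h.resolve_left (mul_ne_zero hβ hγ)
  refine ⟨fun β hβ => ⟨hirr β (hpos β hβ), ?_⟩, ?_, ?_⟩
  · rw [hinner]
    have h1 : ∀ γ, (e γ : ℂ) * Cfsg.classInner ((γ : G → ℂ) * χ) ((β : G → ℂ) * χ)
        = if γ = β then (e β : ℂ) else 0 := by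
      intro γ
      by_cases hγ : e γ = 0
      · rw [hγ, Nat.cast_zero, zero_mul, if_neg]
        exact fun h => hpos β hβ (h ▸ hγ)
      split_ifs with h
      · rw [h, classInner_self_irr ⟨_, hirr β (hpos β hβ)⟩, mul_one]
      · rw [ha, hoff γ β hγ (hpos β hβ) h, Nat.cast_zero, mul_zero]
    rw [Finset.sum_congr rfl fun γ _ => h1 γ, Finset.sum_ite_eq']
    simpa using hpos β hβ
  · intro β γ hβ hγ h
    by_contra hne
    have h0 := ha β γ
    rw [hoff β γ (hpos β hβ) (hpos γ hγ) hne, h,
      classInner_self_irr ⟨_, hirr γ (hpos γ hγ)⟩] at h0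
    simp at h0
  · intro ψ hψ
    rw [hinner] at hψ
    obtain ⟨β, -, hβ⟩ := Finset.exists_ne_zero_of_sum_ne_zero hψ
    rw [mul_ne_zero_iff, Nat.cast_ne_zero] at hβ
    refine ⟨β, by rw [he]; exact_mod_cast hβ.1, ?_⟩
    by_contra hne
    exact hβ.2 (classInner_irr_of_ne (χ := ⟨_, hirr β hβ.1⟩)
      fun h => hne (congrArg Subtype.val h).symm)

/-- A constituent of the permutation character of `G / N` is constant on cosets of `N`. -/
theorem apply_mul_of_over_one (β : Cfsg.IrrCharacter G)
    (hβ : Cfsg.classInner (Cfsg.indFun N (fun _ => 1)) β ≠ 0) (n : N) (g : G) :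
    (β : G → ℂ) ((n : G) * g) = (β : G → ℂ) g := by
  have := Fintype.ofFinite N
  rw [frobenius_reciprocity N _ (isClassFunction_irr β)] at hβ
  have hres := restrict_eq_smul N β.2 (oneChar N) (classInner_ne_zero_symm hβ)
    (fun g => funext fun m => rfl)
  obtain ⟨k, ρ, hρ, hρc⟩ := exists_rep β
  have h1 : (β : G → ℂ) n = (β : G → ℂ) 1 := (congrFun hres n).trans (congrFun hres 1).symm
  rw [← hρc] at h1 ⊢
  rw [Representation.char_one, Diag.char_eq_finrank_iff] at h1
  show LinearMap.trace ℂ _ (ρ ((n : G) * g)) = LinearMap.trace ℂ _ (ρ g)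
  rw [map_mul, h1, ← Module.End.one_eq_id, one_mul]

section average

variable [Fintype N] {V : Type*} [AddCommGroup V] [Module ℂ V] [FiniteDimensional ℂ V]
  {W : Type*} [AddCommGroup W] [Module ℂ W] [FiniteDimensional ℂ W]
  (ρ : Representation ℂ G V) (σ : Representation ℂ G W)

omit hN in
/-- The projection to the `N`-invariant linear maps. -/
noncomputable def proj : Module.End ℂ (V →ₗ[ℂ] W) :=
  (Nat.card N : ℂ)⁻¹ • ∑ n : N, Representation.linHom ρ σ n

omit hN in
theorem coset_average (g : G) :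
    LinearMap.trace ℂ _ (proj N ρ σ * Representation.linHom ρ σ g) =
      (Nat.card N : ℂ)⁻¹ * ∑ n : N, σ.character ((n : G) * g) * conj (ρ.character ((n : G) * g)) := by
  rw [proj, smul_mul_assoc, map_smul, smul_eq_mul, Finset.sum_mul, map_sum]
  congr 1
  refine Finset.sum_congr rfl fun n _ => ?_
  rw [← map_mul]
  show (Representation.linHom ρ σ).character ((n : G) * g) = _
  rw [Representation.char_linHom, mul_comm, Diag.char_inv_eq_conj]

omit hN [FiniteDimensional ℂ V] [FiniteDimensional ℂ W] in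
theorem proj_mem (A : V →ₗ[ℂ] W) (m : N) :
    σ m ∘ₗ proj N ρ σ A = proj N ρ σ A ∘ₗ ρ m := by
  refine LinearMap.ext fun v => ?_
  simp only [proj, LinearMap.smul_apply, LinearMap.sum_apply, LinearMap.comp_apply,
    Representation.linHom_apply, map_smul, map_sum]
  congr 1
  refine Fintype.sum_equiv (Equiv.mulLeft m) _ _ fun n => ?_
  simp only [Equiv.coe_mulLeft, Subgroup.coe_mul, map_mul, mul_inv_rev, Module.End.mul_apply]
  congr 3
  rw [← Module.End.mul_apply, ← map_mul]
  simp

/-- Restriction of a representation. -/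
abbrev res : Representation ℂ N V := MonoidHom.comp ρ N.subtype

omit hN in
theorem average_eq_zero (h : Cfsg.classInner (fun n : N => σ.character n)
    (fun n : N => ρ.character n) = 0) (g : G) :
    (Nat.card N : ℂ)⁻¹ * ∑ n : N, σ.character ((n : G) * g) * conj (ρ.character ((n : G) * g))
      = 0 := by
  have hP : proj N ρ σ = 0 := by
    refine LinearMap.ext fun A => ?_
    let f : Representation.IntertwiningMap (res N ρ) (res N σ) :=
      ⟨proj N ρ σ A, fun m => (proj_mem N ρ σ A m).symm⟩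
    have hf := classInner_character_eq_finrank (res N σ) (res N ρ)
    rw [show (res N σ).character = fun n : N => σ.character n from rfl,
      show (res N ρ).character = fun n : N => ρ.character n from rfl, h, eq_comm,
      Nat.cast_eq_zero] at hf
    have : Subsingleton (Representation.IntertwiningMap (res N ρ) (res N σ)) :=
      Module.finrank_zero_iff.mp hf
    exact congrArg Representation.IntertwiningMap.toLinearMap (Subsingleton.elim f 0)
  rw [← coset_average, hP, zero_mul, map_zero]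

omit hN in
theorem average_self [hirr : (res N ρ).IsIrreducible] (g : G) :
    (Nat.card N : ℂ)⁻¹ * ∑ n : N, ρ.character ((n : G) * g) * conj (ρ.character ((n : G) * g))
      = 1 := by
  have hd : (Module.finrank ℂ V : ℂ) ≠ 0 :=
    Nat.cast_ne_zero.mpr (finrank_pos_of_isIrreducible (res N ρ)).ne'
  have htr : ∀ (x : G) (A : Module.End ℂ V),
      LinearMap.trace ℂ V (Representation.linHom ρ ρ x A) = LinearMap.trace ℂ V A := by
    intro x A
    show LinearMap.trace ℂ V (ρ x * (A * ρ x⁻¹)) = _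
    rw [LinearMap.trace_mul_comm, mul_assoc, ← map_mul, inv_mul_cancel, map_one, mul_one]
  have hP : ∀ A : Module.End ℂ V,
      proj N ρ ρ A = (LinearMap.trace ℂ V A / Module.finrank ℂ V) • (1 : Module.End ℂ V) := by
    intro A
    obtain ⟨c, hc⟩ := Rep.schur (res N ρ) (proj N ρ ρ A)
      (fun m => (proj_mem N ρ ρ A m).symm)
    have h1 : LinearMap.trace ℂ V (proj N ρ ρ A) = LinearMap.trace ℂ V A := by
      simp only [proj, LinearMap.smul_apply, LinearMap.sum_apply, map_smul, map_sum, htr,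
        Finset.sum_const, Finset.card_univ, nsmul_eq_mul, smul_eq_mul, Fintype.card_eq_nat_card]
      rw [← mul_assoc, inv_mul_cancel₀ (subgroup_card_ne_zero N), one_mul]
    rw [hc, map_smul, LinearMap.trace_one, smul_eq_mul] at h1
    rw [hc, ← h1, mul_div_assoc, div_self hd, mul_one]
  have hcomp : proj N ρ ρ * Representation.linHom ρ ρ g =
      (LinearMap.trace ℂ V).smulRight ((Module.finrank ℂ V : ℂ)⁻¹ • (1 : Module.End ℂ V)) := by
    refine LinearMap.ext fun A => ?_
    rw [Module.End.mul_apply, hP, htr, LinearMap.smulRight_apply, smul_smul, div_eq_mul_inv]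
  rw [← coset_average N ρ ρ g, hcomp, LinearMap.trace_smulRight, map_smul, LinearMap.trace_one,
    smul_eq_mul, inv_mul_cancel₀ hd]

end average

end Cfsg.Agent.Lib.Clifford.Gallagher
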