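import Cfsg.Agent.Lib.Induced.Basic
import Mathlib

/-!
# A T.I. subgroup `K` with Frobenius normaliser
-/

set_option autoImplicit false

namespace Cfsg.Agent.Lib.Clifford.TISubgroup

open Subgroup

universe u

variable {G : Type u} [Group G] [Finite G] (K : Subgroup G)
  (hC : ∀ k ∈ K, k ≠ 1 → Subgroup.centralizer ({k} : Set G) ≤ K)

include hC

/-- `|K|` is prime to `[N(K) : K]`. -/
theorem coprime_card_index :
    Nat.Coprime (Nat.card K) (K.subgroupOf (normalizer (K : Set G))).index := by
  refine Nat.coprime_of_dvd fun p hp hpK hpI => ?_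
  have : Fact p.Prime := ⟨hp⟩
  set N := normalizer (K : Set G)
  obtain ⟨P⟩ := (inferInstance : Nonempty (Sylow p N))
  set K₀ : Subgroup N := K.subgroupOf N
  have hK₀n : K₀.Normal := Subgroup.normal_in_normalizer
  have hcard : Nat.card K₀ = Nat.card K :=
    Nat.card_congr (Subgroup.subgroupOfEquivOfLe le_normalizer).toEquiv
  -- a nontrivial element of `K₀` central in `P`
  obtain ⟨z, hz1, hzK, hzc⟩ : ∃ z : N, z ≠ 1 ∧ z ∈ K₀ ∧ ∀ q ∈ (P : Subgroup N), q * z = z * q := by
    let act : MulAction (P : Subgroup N) K₀ := MulAction.compHom K₀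
      ((MulAut.conjNormal : N →* MulAut K₀).comp (P : Subgroup N).subtype)
    have h1 : (1 : K₀) ∈ MulAction.fixedPoints (P : Subgroup N) K₀ := fun q =>
      map_one (MulAut.conjNormal (H := K₀) (q : N))
    obtain ⟨b, hb, hne⟩ := P.2.exists_fixed_point_of_prime_dvd_card_of_fixed_point K₀
      (hcard.symm ▸ hpK : p ∣ Nat.card K₀) h1
    refine ⟨b, fun h => hne (Subtype.ext h.symm), b.2, fun q hq => ?_⟩
    have h := congrArg (Subtype.val : K₀ → N) (hb ⟨q, hq⟩)
    change ((MulAut.conjNormal (H := K₀) q b : K₀) : N) = (b : N) at h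
    rw [MulAut.conjNormal_apply] at h
    exact mul_inv_eq_iff_eq_mul.mp h
  have hPle : (P : Subgroup N) ≤ K₀ := by
    intro q hq
    rw [mem_subgroupOf]
    refine hC z hzK (fun h => hz1 (Subtype.ext h)) ?_
    rw [mem_centralizer_singleton_iff]
    exact congrArg Subtype.val (hzc q hq)
  have := index_dvd_of_le hPle
  exact P.not_dvd_index (hpI.trans this)

/-- An element of `N(K)` conjugate to an element of `K` lies in `K`. -/
theorem mem_of_conj_mem {x g : G} (hx : x ∈ normalizer (K : Set G)) (h : g * x * g⁻¹ ∈ K) :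
    x ∈ K := by
  set N := normalizer (K : Set G)
  have hK₀n : (K.subgroupOf N).Normal := Subgroup.normal_in_normalizer
  have h1 : orderOf ((⟨x, hx⟩ : N) : N ⧸ K.subgroupOf N) ∣ Nat.card K := by
    refine (orderOf_map_dvd (QuotientGroup.mk' (K.subgroupOf N)) (⟨x, hx⟩ : N)).trans ?_
    rw [← orderOf_coe]
    have := Subgroup.orderOf_dvd_natCard K h
    rwa [← MulAut.conj_apply, MulEquiv.orderOf_eq] at this
  have h2 : orderOf ((⟨x, hx⟩ : N) : N ⧸ K.subgroupOf N) ∣ (K.subgroupOf N).index := by
    rw [index_eq_card]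
    exact _root_.orderOf_dvd_natCard _
  have h3 := Nat.eq_one_of_dvd_coprimes (coprime_card_index K hC) h1 h2
  rw [orderOf_eq_one_iff, QuotientGroup.eq_one_iff, mem_subgroupOf] at h3
  exact h3

omit hC

variable [Fintype G]
  (hTI : ∀ g : G, g ∉ Subgroup.normalizer (K : Set G) → ∀ k ∈ K, g * k * g⁻¹ ∈ K → k = 1)

include hC hTI

/-- Induction of a class function of `N(K)` supported on `K \ {1}` restricts back to itself. -/
theorem indFun_restrict (ϑ : normalizer (K : Set G) → ℂ)
    (hϑ : Cfsg.IsClassFunction (normalizer (K : Set G)) ϑ)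
    (h0 : ∀ x : normalizer (K : Set G), (x : G) ∉ K → ϑ x = 0) (h1 : ϑ 1 = 0)
    (x : normalizer (K : Set G)) :
    Cfsg.indFun (normalizer (K : Set G)) ϑ x = ϑ x := by
  classical
  by_cases hx : (x : G) ∈ K ∧ x ≠ 1
  · have key : ∀ y : G, Cfsg.extendByZero (normalizer (K : Set G)) ϑ (y⁻¹ * x * y)
        = if y ∈ (normalizer (K : Set G)) then ϑ x else 0 := by
      intro y
      by_cases hy : y ∈ (normalizer (K : Set G))
      · rw [if_pos hy]
        have := Lib.Induced.Basic.extendByZero_conj_of_mem (normalizer (K : Set G)) hϑ ((normalizer (K : Set G)).inv_mem hy) (x : G)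
        rw [inv_inv, Lib.Induced.Basic.extendByZero_coe] at this
        exact this
      · rw [if_neg hy]
        by_cases hm : y⁻¹ * x * y ∈ (normalizer (K : Set G))
        · rw [Lib.Induced.Basic.extendByZero_of_mem (normalizer (K : Set G)) ϑ hm]
          refine h0 _ fun hK => hx.2 (Subtype.ext ?_)
          refine hTI y⁻¹ (fun h => hy (((normalizer (K : Set G)).inv_mem_iff).mp h)) x hx.1 ?_
          rw [inv_inv]
          exact hK
        · exact Lib.Induced.Basic.extendByZero_of_not_mem (normalizer (K : Set G)) ϑ hm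
    simp only [Cfsg.indFun, key]
    rw [← Finset.sum_filter, Finset.sum_const, nsmul_eq_mul, ← mul_assoc]
    have hc : (Finset.univ.filter fun y : G => y ∈ (normalizer (K : Set G))).card = Nat.card (normalizer (K : Set G)) := by
      rw [Nat.card_eq_fintype_card, Fintype.card_subtype]
    rw [hc, inv_mul_cancel₀ (Lib.Induced.Basic.subgroup_card_ne_zero (normalizer (K : Set G))), one_mul]
  · have hxz : ϑ x = 0 := by
      rcases not_and_or.mp hx with h | h
      · exact h0 x h
      · rw [not_not.mp h, h1]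
    rw [hxz, Cfsg.indFun, Finset.sum_eq_zero, mul_zero]
    intro y _
    by_cases hm : y⁻¹ * x * y ∈ (normalizer (K : Set G))
    · rw [Lib.Induced.Basic.extendByZero_of_mem (normalizer (K : Set G)) ϑ hm]
      by_cases hK : y⁻¹ * x * y ∈ K
      · have hxK : (x : G) ∈ K := mem_of_conj_mem K hC x.2 (g := y⁻¹) (by rwa [inv_inv])
        have hx1 : x = 1 := not_not.mp fun h => hx ⟨hxK, h⟩
        rw [show (⟨y⁻¹ * x * y, hm⟩ : (normalizer (K : Set G))) = 1 from Subtype.ext (by simp [hx1]), h1]
      · exact h0 _ hK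
    · exact Lib.Induced.Basic.extendByZero_of_not_mem (normalizer (K : Set G)) ϑ hm

end Cfsg.Agent.Lib.Clifford.TISubgroup
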