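import Cfsg.Agent.Lib.Clifford.KernelChars
import Cfsg.Agent.Lib.Clifford.TISubgroup
import Cfsg.Agent.Lib.Induced.Character
import Cfsg.Agent.Lib.Induced.Generalized

/-!
# Exceptional characters of a coherent TI subgroup with Frobenius normalizer
-/

namespace Cfsg.Agent.Lib.Clifford.TICoherent

open scoped ComplexConjugate
open Cfsg.Agent.Lib.Characters.Basic
open Cfsg.Agent.Lib.Induced.Basic (classInner_sub_left classInner_sub_right
  classInner_smul_left classInner_smul_right classInner_conj_symm frobenius_reciprocity)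
open Cfsg.Agent.Lib.Clifford.KernelChars

universe u

variable {G : Type u} [Group G] (K : Subgroup G)

theorem self_centralizing (hC : ∀ k ∈ K, k ≠ 1 → Subgroup.centralizer ({k} : Set G) ≤ K) :
    ∀ k ∈ K.subgroupOf (Subgroup.normalizer (K : Set G)), k ≠ 1 → ∀ x, Commute x k → x ∈ K.subgroupOf (Subgroup.normalizer (K : Set G)) := by
  intro k hk hk1 x hx
  rw [Subgroup.mem_subgroupOf] at hk ⊢
  refine hC k hk (fun e => hk1 (Subtype.ext e)) (Subgroup.mem_centralizer_singleton_iff.mpr ?_)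
  exact congrArg Subtype.val hx.eq

theorem rel_iff (χ : (Subgroup.normalizer (K : Set G)) → ℂ) :
    Rel (K.subgroupOf (Subgroup.normalizer (K : Set G))) χ ↔ ∃ k : (Subgroup.normalizer (K : Set G)), (k : G) ∈ K ∧ χ k ≠ χ 1 := Iff.rfl

theorem mem_S_iff {S : Set ((Subgroup.normalizer (K : Set G)) → ℂ)}
    (hS : S = {χ : (Subgroup.normalizer (K : Set G)) → ℂ | Cfsg.IsIrrCharacter (Subgroup.normalizer (K : Set G)) χ ∧ ∃ k : (Subgroup.normalizer (K : Set G)), (k : G) ∈ K ∧ χ k ≠ χ 1})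
    (χ : (Subgroup.normalizer (K : Set G)) → ℂ) : χ ∈ S ↔ Cfsg.IsIrrCharacter (Subgroup.normalizer (K : Set G)) χ ∧ Rel (K.subgroupOf (Subgroup.normalizer (K : Set G))) χ := by
  subst hS; exact Iff.rfl

variable [Fintype G] [Fintype (Subgroup.normalizer (K : Set G))]
  (hTI : ∀ g : G, g ∉ (Subgroup.normalizer (K : Set G)) → ∀ k ∈ K, g * k * g⁻¹ ∈ K → k = 1)
  (hC : ∀ k ∈ K, k ≠ 1 → Subgroup.centralizer ({k} : Set G) ≤ K)
  {S : Set ((Subgroup.normalizer (K : Set G)) → ℂ)}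
  (hS : S = {χ : (Subgroup.normalizer (K : Set G)) → ℂ | Cfsg.IsIrrCharacter (Subgroup.normalizer (K : Set G)) χ ∧ ∃ k : (Subgroup.normalizer (K : Set G)), (k : G) ∈ K ∧ χ k ≠ χ 1})
  {star : ((Subgroup.normalizer (K : Set G)) → ℂ) → (G → ℂ)}
  (hstar : Cfsg.IsLinearIsometryOn (Cfsg.zspan S) star)
  (hext : ∀ α ∈ Cfsg.zspanOn S ({1}ᶜ : Set (Subgroup.normalizer (K : Set G))), star α = Cfsg.indFun (Subgroup.normalizer (K : Set G)) α)

omit [Fintype G] in
include hS in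
theorem comb_mem {χ ξ : (Subgroup.normalizer (K : Set G)) → ℂ} (hχ : χ ∈ S) (hξ : ξ ∈ S) :
    ξ 1 • χ - χ 1 • ξ ∈ Cfsg.zspanOn S ({1}ᶜ : Set (Subgroup.normalizer (K : Set G))) := by
  obtain ⟨m, -, hm⟩ := exists_degree_pos ⟨χ, ((mem_S_iff K hS χ).mp hχ).1⟩
  obtain ⟨n, -, hn⟩ := exists_degree_pos ⟨ξ, ((mem_S_iff K hS ξ).mp hξ).1⟩
  change χ 1 = m at hm
  change ξ 1 = n at hn
  refine Cfsg.Agent.Lib.Isometry.Inner.mem_zspanOn_one.2 ⟨?_, by simp [mul_comm]⟩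
  rw [hm, hn]
  refine Cfsg.Agent.Lib.Isometry.Coherence.zspan_sub ?_ ?_
  · simpa using Cfsg.Agent.Lib.Isometry.Coherence.zspan_smul (n : ℤ)
      (Cfsg.Agent.Lib.Isometry.Inner.subset_zspan S hχ)
  · simpa using Cfsg.Agent.Lib.Isometry.Coherence.zspan_smul (m : ℤ)
      (Cfsg.Agent.Lib.Isometry.Inner.subset_zspan S hξ)

include hS hstar in
theorem star_comb {χ ξ : (Subgroup.normalizer (K : Set G)) → ℂ} (hχ : χ ∈ S) (hξ : ξ ∈ S) :
    star (ξ 1 • χ - χ 1 • ξ) = ξ 1 • star χ - χ 1 • star ξ := by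
  obtain ⟨m, -, hm⟩ := exists_degree_pos ⟨χ, ((mem_S_iff K hS χ).mp hχ).1⟩
  obtain ⟨n, -, hn⟩ := exists_degree_pos ⟨ξ, ((mem_S_iff K hS ξ).mp hξ).1⟩
  change χ 1 = m at hm
  change ξ 1 = n at hn
  rw [hm, hn]
  have hχ' := Cfsg.Agent.Lib.Isometry.Inner.subset_zspan S hχ
  have hξ' := Cfsg.Agent.Lib.Isometry.Inner.subset_zspan S hξ
  have h1 := Cfsg.Agent.Lib.Isometry.Criterion.span_iso_smul hstar hχ' (n : ℤ)
  have h2 := Cfsg.Agent.Lib.Isometry.Criterion.span_iso_smul hstar hξ' (m : ℤ)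
  have h3 := Cfsg.Agent.Lib.Isometry.Criterion.span_iso_sub hstar
    (Cfsg.Agent.Lib.Isometry.Coherence.zspan_smul (n : ℤ) hχ')
    (Cfsg.Agent.Lib.Isometry.Coherence.zspan_smul (m : ℤ) hξ')
  rw [h1, h2] at h3
  simpa using h3

include hTI hC hS hext hstar in
theorem comb_restrict {χ ξ : (Subgroup.normalizer (K : Set G)) → ℂ} (hχ : χ ∈ S) (hξ : ξ ∈ S) (k : (Subgroup.normalizer (K : Set G))) :
    (ξ 1 • χ - χ 1 • ξ) k = ξ 1 * star χ k - χ 1 * star ξ k := by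
  obtain ⟨hχi, hχr⟩ := (mem_S_iff K hS χ).mp hχ
  obtain ⟨hξi, hξr⟩ := (mem_S_iff K hS ξ).mp hξ
  have h := congrFun (hext _ (comb_mem K hS hχ hξ)) (k : G)
  rw [star_comb K hS hstar hχ hξ] at h
  have hcf := Cfsg.Agent.Lib.Characters.Complete.classFun_sub
      (Cfsg.Agent.Lib.Characters.Complete.classFun_smul (ξ 1) (isClassFunction_irr ⟨χ, hχi⟩))
      (Cfsg.Agent.Lib.Characters.Complete.classFun_smul (χ 1) (isClassFunction_irr ⟨ξ, hξi⟩))
  rw [← Cfsg.Agent.Lib.Clifford.TISubgroup.indFun_restrict K hC hTI (ξ 1 • χ - χ 1 • ξ) hcf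
    (fun x hx => by
      have e1 : χ x = 0 := vanish _ (self_centralizing K hC) ⟨χ, hχi⟩ hχr hx
      have e2 : ξ x = 0 := vanish _ (self_centralizing K hC) ⟨ξ, hξi⟩ hξr hx
      simp [e1, e2])
    (by simp [mul_comm]) k]
  exact h.symm

include hS hext in
/-- Reciprocity for the extending isometry. -/
theorem inner_restrict {ψ : G → ℂ} (hψ : Cfsg.IsClassFunction G ψ) {χ ξ : (Subgroup.normalizer (K : Set G)) → ℂ} (hχ : χ ∈ S)
    (hξ : ξ ∈ S) :
    Cfsg.classInner (ξ 1 • χ - χ 1 • ξ) (fun x : (Subgroup.normalizer (K : Set G)) => ψ x) =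
      Cfsg.classInner (star (ξ 1 • χ - χ 1 • ξ)) ψ := by
  rw [hext _ (comb_mem K hS hχ hξ), frobenius_reciprocity _ _ hψ]

omit [Fintype (Subgroup.normalizer (K : Set G))] in
theorem classFun_restrict {ψ : G → ℂ} (hψ : Cfsg.IsClassFunction G ψ) :
    Cfsg.IsClassFunction (Subgroup.normalizer (K : Set G)) (fun x : (Subgroup.normalizer (K : Set G)) => ψ x) := fun x c => hψ (x : G) (c : G)

include hS hstar in
theorem star_gen {χ : (Subgroup.normalizer (K : Set G)) → ℂ} (hχ : χ ∈ S) : Cfsg.IsGeneralizedCharacter G (star χ) :=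
  hstar.2.2.2 χ (Cfsg.Agent.Lib.Isometry.Inner.subset_zspan S hχ)

include hS hstar in
theorem star_signed {χ : (Subgroup.normalizer (K : Set G)) → ℂ} (hχ : χ ∈ S) :
    Cfsg.IsIrrCharacter G (star χ) ∨ Cfsg.IsIrrCharacter G (-star χ) := by
  refine Cfsg.Agent.Lib.Isometry.Inner.signed_of_norm_one (star_gen K hS hstar hχ) ?_
  have h := Cfsg.Agent.Lib.Isometry.Inner.subset_zspan S hχ
  rw [hstar.2.2.1 χ h χ h]
  exact classInner_self_irr ⟨χ, ((mem_S_iff K hS χ).mp hχ).1⟩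

include hS hstar hext in
/-- `star χ - χ` is constant on the non-identity elements of `K`. -/
theorem exists_shift {χ : (Subgroup.normalizer (K : Set G)) → ℂ} (hχ : χ ∈ S) :
    ∃ b : ℂ, ∀ k : (Subgroup.normalizer (K : Set G)), (k : G) ∈ K → k ≠ 1 → star χ k - χ k = b := by
  obtain ⟨hχi, -⟩ := (mem_S_iff K hS χ).mp hχ
  have hcf := Cfsg.Agent.Lib.Induced.Generalized.isClassFunction_of_isGen (star_gen K hS hstar hχ)
  obtain ⟨b, hb⟩ := eq_const (K.subgroupOf (Subgroup.normalizer (K : Set G)))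
    (D := (fun x : (Subgroup.normalizer (K : Set G)) => star χ x) - χ)
    (Cfsg.Agent.Lib.Characters.Complete.classFun_sub (classFun_restrict K hcf)
      (isClassFunction_irr ⟨χ, hχi⟩))
    (fun μ ν hμ hν => by
      have hμS : (μ : (Subgroup.normalizer (K : Set G)) → ℂ) ∈ S := (mem_S_iff K hS _).mpr ⟨μ.2, hμ⟩
      have hνS : (ν : (Subgroup.normalizer (K : Set G)) → ℂ) ∈ S := (mem_S_iff K hS _).mpr ⟨ν.2, hν⟩
      rw [classInner_sub_right, inner_restrict K hS hext hcf hμS hνS,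
        hstar.2.2.1 _ (comb_mem K hS hμS hνS).1 _
          (Cfsg.Agent.Lib.Isometry.Inner.subset_zspan S hχ), sub_self])
  exact ⟨b, fun k hk hk1 => hb k hk hk1⟩

end Cfsg.Agent.Lib.Clifford.TICoherent
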