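import Cfsg.Agent.Lib.Clifford.Gallagher
import Cfsg.Agent.Lib.Characters.Linear
import Cfsg.Agent.Lib.Characters.Kernel
import Cfsg.Agent.Lib.Brauer.PermChar

/-!
# Monomiality over a normal subgroup with abelian Sylow subgroups
-/

set_option autoImplicit false

namespace Cfsg.Agent.Lib.Clifford.Monomial

open scoped ComplexConjugate commutatorElement
open Cfsg.Agent.Lib.Induced.Basic Cfsg.Agent.Lib.Characters.Basic Cfsg.Agent.Lib.Characters
open Cfsg.Agent.Lib.Clifford.Basic Subgroup

universe u v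

section split

variable {G : Type u} [Group G] [Fintype G]

/-- An irreducible character is not the sum of two non-zero characters. -/
theorem eq_zero_or_of_irr {u w : G → ℂ} (hu : Cfsg.IsCharacter G u) (hw : Cfsg.IsCharacter G w)
    (h : Cfsg.IsIrrCharacter G (u + w)) : u = 0 ∨ w = 0 := by
  by_contra hcon
  push Not at hcon
  have hu0 := Gallagher.classInner_self_ne_zero
    (fun h0 => hcon.1 (eq_zero_of_apply_one_eq_zero hu h0))
  have hw0 := Gallagher.classInner_self_ne_zero
    (fun h0 => hcon.2 (eq_zero_of_apply_one_eq_zero hw h0))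
  obtain ⟨a, ha⟩ := exists_classInner_nat hu hu
  obtain ⟨b, hb⟩ := exists_classInner_nat hw hw
  obtain ⟨c, hc⟩ := exists_classInner_nat hu hw
  obtain ⟨d, hd⟩ := exists_classInner_nat hw hu
  have h1 : Cfsg.classInner (u + w) (u + w) = 1 := classInner_self_irr ⟨_, h⟩
  rw [classInner_add_left, classInner_add_right, classInner_add_right, ha, hb, hc, hd] at h1
  have h2 : a + c + (d + b) = 1 := by exact_mod_cast h1
  rw [ha, Nat.cast_ne_zero] at hu0
  rw [hb, Nat.cast_ne_zero] at hw0
  omega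

/-- A character inducing an irreducible character is irreducible. -/
theorem isIrr_of_indFun_irr (H : Subgroup G) [Fintype H] {φ : H → ℂ}
    (hφ : Cfsg.IsCharacter H φ) (h : Cfsg.IsIrrCharacter G (Cfsg.indFun H φ)) :
    Cfsg.IsIrrCharacter H φ := by
  have hne : φ ≠ 0 := by
    rintro rfl
    rw [indFun_zero] at h
    exact degree_pos h rfl
  obtain ⟨a, ha⟩ := Basic.exists_constituent hφ hne
  obtain ⟨m, r, hr, hm, -, rfl⟩ := exists_eq_nsmul_add hφ a
  have hm0 : m ≠ 0 := fun h0 => ha (by rw [hm, h0, Nat.cast_zero])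
  obtain ⟨k, rfl⟩ := Nat.exists_eq_succ_of_ne_zero hm0
  have hrest : Cfsg.IsCharacter H (k • (a : H → ℂ) + r) :=
    isCharacter_add (isCharacter_nsmul (isCharacter_irr a) k) hr
  have e : (k + 1) • (a : H → ℂ) + r = (a : H → ℂ) + (k • (a : H → ℂ) + r) := by
    rw [succ_nsmul]; abel
  rw [Nat.succ_eq_add_one, e] at h ⊢
  rw [indFun_add] at h
  rcases eq_zero_or_of_irr (Lib.Induced.Character.isCharacter_indFun H (isCharacter_irr a))
    (Lib.Induced.Character.isCharacter_indFun H hrest) h with h0 | h0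
  · have := congrFun h0 1
    rw [indFun_one, Pi.zero_apply, mul_eq_zero] at this
    exact absurd (this.resolve_left (Nat.cast_ne_zero.mpr index_ne_zero_of_finite)) (degree_pos a.2)
  · have := congrFun h0 1
    rw [indFun_one, Pi.zero_apply, mul_eq_zero] at this
    rw [eq_zero_of_apply_one_eq_zero hrest
      (this.resolve_left (Nat.cast_ne_zero.mpr index_ne_zero_of_finite)), add_zero]
    exact a.2

/-- A character with irreducible restriction along a homomorphism is irreducible. -/
theorem isIrr_of_comp_irr {H : Type v} [Group H] [Fintype H] (f : H →* G) {φ : G → ℂ}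
    (hφ : Cfsg.IsCharacter G φ) (h : Cfsg.IsIrrCharacter H (φ ∘ f)) :
    Cfsg.IsIrrCharacter G φ := by
  have hne : φ ≠ 0 := by
    rintro rfl
    exact degree_pos h rfl
  obtain ⟨a, ha⟩ := Basic.exists_constituent hφ hne
  obtain ⟨m, r, hr, hm, -, rfl⟩ := exists_eq_nsmul_add hφ a
  have hm0 : m ≠ 0 := fun h0 => ha (by rw [hm, h0, Nat.cast_zero])
  obtain ⟨k, rfl⟩ := Nat.exists_eq_succ_of_ne_zero hm0
  have hrest : Cfsg.IsCharacter G (k • (a : G → ℂ) + r) :=
    isCharacter_add (isCharacter_nsmul (isCharacter_irr a) k) hr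
  have e : (k + 1) • (a : G → ℂ) + r = (a : G → ℂ) + (k • (a : G → ℂ) + r) := by
    rw [succ_nsmul]; abel
  rw [Nat.succ_eq_add_one, e] at h ⊢
  have hsplit : ((a : G → ℂ) + (k • (a : G → ℂ) + r)) ∘ f
      = (a : G → ℂ) ∘ f + (k • (a : G → ℂ) + r) ∘ f := rfl
  rw [hsplit] at h
  rcases eq_zero_or_of_irr (isCharacter_comp f (isCharacter_irr a)) (isCharacter_comp f hrest) h
    with h0 | h0
  · have := congrFun h0 1
    rw [Function.comp_apply, map_one] at this
    exact absurd this (degree_pos a.2)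
  · have := congrFun h0 1
    rw [Function.comp_apply, map_one] at this
    rw [eq_zero_of_apply_one_eq_zero hrest this, add_zero]
    exact a.2

end split

/-- A finite group with central derived subgroup and abelian Sylow subgroups is abelian. -/
theorem commute_of_central_derived {Q : Type u} [Group Q] [Finite Q]
    (hc : _root_.commutator Q ≤ center Q)
    (hS : ∀ (p : ℕ) [Fact p.Prime] (P : Sylow p Q), ∀ a ∈ P, ∀ b ∈ P, a * b = b * a) (x y : Q) :
    x * y = y * x := by
  have hnil : Group.IsNilpotent Q := by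
    have : Group.IsNilpotent (Abelianization Q) := inferInstance
    exact Subgroup.isNilpotent_of_ker_le_center (Abelianization.of : Q →* Abelianization Q)
      (by rwa [Abelianization.ker_of])
  have hn : ∀ {p : ℕ} [Fact p.Prime] (P : Sylow p Q), (P : Subgroup Q).Normal := inferInstance
  let e := Sylow.directProductOfNormal (G := Q) hn
  obtain ⟨a, rfl⟩ := e.surjective x
  obtain ⟨b, rfl⟩ := e.surjective y
  rw [← map_mul, ← map_mul]
  congr 1
  funext p P
  have : Fact (p : ℕ).Prime := ⟨Nat.prime_of_mem_primeFactors p.2⟩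
  exact Subtype.ext (hS p P _ (a p P).2 _ (b p P).2)

/-- An irreducible representation of commuting operators has degree one. -/
theorem finrank_eq_one_of_commute {A : Type u} [Group A] {V : Type v} [AddCommGroup V]
    [Module ℂ V] [FiniteDimensional ℂ V] (τ : Representation ℂ A V) [τ.IsIrreducible]
    (h : ∀ a b, τ a * τ b = τ b * τ a) : Module.finrank ℂ V = 1 := by
  have hs : ∀ a, ∃ c : ℂ, τ a = c • (1 : Module.End ℂ V) := fun a => Rep.schur τ (τ a) (h a)
  have := Rep.nontrivial_of_irreducible τ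
  obtain ⟨v, hv⟩ := exists_ne (0 : V)
  let W : Subrepresentation τ := ⟨Submodule.span ℂ {v}, fun a w hw => by
    obtain ⟨c, hc⟩ := hs a
    rw [hc, LinearMap.smul_apply, Module.End.one_apply]
    exact Submodule.smul_mem _ c hw⟩
  rcases eq_bot_or_eq_top W with hW | hW
  · exfalso
    apply hv
    have : v ∈ W.toSubmodule := Submodule.mem_span_singleton_self v
    rw [hW] at this
    exact (Submodule.mem_bot ℂ).mp this
  · rw [← finrank_top ℂ V, show (⊤ : Submodule ℂ V) = W.toSubmodule by rw [hW]; rfl]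
    exact finrank_span_singleton hv

variable {G : Type u} [Group G] [Fintype G]

/-- Elements of a normal subgroup on which a homogeneous character commutes act as scalars, and
the character contains a linear character. -/
theorem scalar_of_commute {n : ℕ} (ρ : Representation ℂ G (Fin n → ℂ)) [ρ.IsIrreducible]
    (A : Subgroup G) [A.Normal] [Fintype A] (φ : Cfsg.IrrCharacter A)
    (hφ : Cfsg.classInner (fun a : A => ρ.character a) φ ≠ 0)
    (hinv : ∀ g, conjC A g φ = (φ : A → ℂ))
    (hcomm : ∀ a b : A, ρ a * ρ b = ρ b * ρ a) :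
    (φ : A → ℂ) 1 = 1 ∧ ∀ a : A, ∃ c : ℂ, ρ a = c • (LinearMap.id : (Fin n → ℂ) →ₗ[ℂ] _) := by
  have hres := restrict_eq_smul A (isIrrCharacter_character ρ) φ hφ hinv
  obtain ⟨k, τ, hτ, hτc⟩ := exists_rep φ
  have hker : ∀ c : A, ρ (c : G) = 1 → τ c = 1 := by
    intro c hc
    have h1 : ρ.character (c : G) = ρ.character ((1 : A) : G) := by
      simp [Representation.character, hc]
    have h2 := congrFun hres c
    have h3 := congrFun hres 1
    simp only [Pi.smul_apply, smul_eq_mul] at h2 h3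
    rw [h1, h3] at h2
    rw [Kernel.rep_eq_one_iff, hτc]
    exact (mul_left_cancel₀ hφ h2).symm
  have hτcomm : ∀ a b, τ a * τ b = τ b * τ a := by
    intro a b
    have h1 : τ (a * b * (b * a)⁻¹) = 1 := by
      apply hker
      simp only [Subgroup.coe_mul, Subgroup.coe_inv, map_mul]
      rw [hcomm a b, ← map_mul, ← map_mul, mul_inv_cancel, map_one]
    calc τ a * τ b = τ (a * b * (b * a)⁻¹) * (τ b * τ a) := by
          rw [← map_mul, ← map_mul, ← map_mul, inv_mul_cancel_right]
      _ = τ b * τ a := by rw [h1, one_mul]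
  have hφ1 : (φ : A → ℂ) 1 = 1 := by
    rw [← hτc, Representation.char_one, finrank_eq_one_of_commute τ hτcomm, Nat.cast_one]
  refine ⟨hφ1, fun a => ?_⟩
  refine (Diag.norm_char_eq_finrank_iff ρ (a : G)).mp ?_
  have h2 := congrFun hres a
  have h3 := congrFun hres 1
  simp only [Pi.smul_apply, smul_eq_mul] at h2 h3
  rw [hφ1, mul_one, OneMemClass.coe_one, Representation.char_one] at h3
  have hnorm : ‖(φ : A → ℂ) a‖ = 1 := by
    have hu := (Linear.degOneHom (isCharacter_irr φ) hφ1)
    refine Complex.norm_eq_one_of_pow_eq_one (n := Nat.card A) ?_ Nat.card_pos.ne'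
    rw [← Linear.degOneHom_apply (isCharacter_irr φ) hφ1, ← Units.val_pow_eq_pow_val, ← map_pow,
      pow_card_eq_one', map_one, Units.val_one]
  rw [h2, ← h3, norm_mul, hnorm, mul_one, Complex.norm_natCast]

/-- The core of monomiality. -/
theorem monomial_of_restrict (N : Subgroup G) [N.Normal] [Group.IsSolvable G]
    (habP : ∀ p : ℕ, p.Prime → ∀ P : Subgroup G, IsPGroup p P → P ≤ N →
      ∀ a ∈ P, ∀ b ∈ P, a * b = b * a)
    {χ : G → ℂ} (hχ : Cfsg.IsIrrCharacter G χ)
    (hN : Cfsg.IsIrrCharacter N (fun n : N => χ n)) :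
    ∃ (U : Subgroup G) (lam : U → ℂ), Cfsg.IsCharacter U lam ∧ lam 1 = 1 ∧
      Cfsg.indFun U lam = χ := by
  classical
  -- a smallest inducing subgroup
  have hex : ∃ (m : ℕ) (U : Subgroup G) (ξ : U → ℂ), Nat.card U = m ∧
      Cfsg.IsIrrCharacter U ξ ∧ Cfsg.indFun U ξ = χ := by
    refine ⟨_, ⊤, χ ∘ (⊤ : Subgroup G).subtype, rfl,
      isIrrCharacter_comp _ (fun g => ⟨⟨g, mem_top g⟩, rfl⟩) hχ, ?_⟩
    funext g
    exact Lib.Brauer.PermChar.indFun_top _
      (isClassFunction_irr ⟨_, isIrrCharacter_comp _ (fun g => ⟨⟨g, mem_top g⟩, rfl⟩) hχ⟩) g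
  obtain ⟨U, ξ, hcard, hξ, hind⟩ := Nat.find_spec hex
  have hmin : ∀ (U' : Subgroup G) (ξ' : U' → ℂ), Cfsg.IsIrrCharacter U' ξ' →
      Cfsg.indFun U' ξ' = χ → Nat.card U ≤ Nat.card U' := fun U' ξ' h1 h2 =>
    hcard ▸ Nat.find_min' hex ⟨U', ξ', rfl, h1, h2⟩
  have hχcl := isClassFunction_irr (⟨χ, hχ⟩ : Cfsg.IrrCharacter G)
  have hξc := IsCharacter_of_isIrrCharacter hξ
  -- `U N = G`
  have hUN : U ⊔ N = ⊤ := by
    set K := U ⊔ N with hK
    have hUK : U ≤ K := le_sup_left
    have hNK : N ≤ K := le_sup_right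
    let ξK : U.subgroupOf K → ℂ := fun x => ξ ⟨(x : K), mem_subgroupOf.mp x.2⟩
    have hξK : Cfsg.IsCharacter (U.subgroupOf K) ξK :=
      isCharacter_comp (subgroupOfEquivOfLe hUK).toMonoidHom hξc
    set ζ : K → ℂ := Cfsg.indFun (U.subgroupOf K) ξK with hζdef
    have hζc : Cfsg.IsCharacter K ζ := Lib.Induced.Character.isCharacter_indFun _ hξK
    have hindK : Cfsg.indFun K ζ = χ := by rw [hζdef, indFun_trans U K hUK ξ, hind]
    have hζ := isIrr_of_indFun_irr K hζc (hindK.symm ▸ hχ)
    have hresK : Cfsg.IsIrrCharacter K (fun k : K => χ k) :=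
      isIrr_of_comp_irr (Subgroup.inclusion hNK)
        (isCharacter_comp K.subtype (IsCharacter_of_isIrrCharacter hχ)) hN
    have hinner : Cfsg.classInner ζ (fun k : K => χ k) = 1 := by
      rw [← frobenius_reciprocity K ζ hχcl, hindK]
      exact classInner_self_irr ⟨χ, hχ⟩
    have heq : ζ = fun k : K => χ k := by
      by_contra hne
      rw [classInner_irr_of_ne (χ := ⟨ζ, hζ⟩) (ψ := ⟨_, hresK⟩)
        fun h => hne (congrArg Subtype.val h)] at hinner
      exact zero_ne_one hinner
    have hdeg : χ 1 = (K.index : ℂ) * χ 1 := by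
      have h' := indFun_one K ζ
      rw [hindK, heq] at h'
      simpa using h'
    have : (K.index : ℂ) = 1 := mul_right_cancel₀ (degree_pos hχ) (by rw [one_mul]; exact hdeg.symm)
    exact index_eq_one.mp (by exact_mod_cast this)
  -- every normal subgroup of `U` is homogeneous
  obtain ⟨n, ρ, hρ, hρc⟩ := hξ
  have hξ : Cfsg.IsIrrCharacter U ξ := ⟨n, ρ, hρ, hρc⟩
  have hhom : ∀ (A : Subgroup U) [A.Normal] (φ : Cfsg.IrrCharacter A),
      Cfsg.classInner (fun a : A => ξ a) φ ≠ 0 → ∀ u, conjC A u φ = (φ : A → ℂ) := by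
    intro A _ φ hφ u
    set T := inertia A (φ : A → ℂ) with hT
    obtain ⟨ψ, hψ, hψind, -, -⟩ := exists_correspondent A hξ φ hφ T hT
      (le_inertia A (isClassFunction_irr φ))
    have h1 := hmin (T.map U.subtype)
      (fun k => ψ ((T.equivMapOfInjective U.subtype Subtype.val_injective).symm k))
      (isIrrCharacter_comp
        (T.equivMapOfInjective U.subtype Subtype.val_injective).symm.toMonoidHom
        (T.equivMapOfInjective U.subtype Subtype.val_injective).symm.surjective hψ)
      (by rw [← Lib.Brauer.PermChar.indFun_indFun U T ψ, hψind, hind])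
    rw [card_subtype] at h1
    have h2 : T = ⊤ := eq_top_of_le_card T h1
    exact (mem_inertia A).mp (hT ▸ h2 ▸ mem_top u : u ∈ inertia A (φ : A → ℂ))
  -- the part inside `N` acts by scalars
  let M : Subgroup U := N.subgroupOf U
  have hMn : M.Normal := Subgroup.normal_subgroupOf
  let Z : Subgroup U :=
    { carrier := {u | ∃ c : ℂ, ρ u = c • (1 : Module.End ℂ (Fin n → ℂ))}
      one_mem' := ⟨1, by rw [map_one, one_smul]⟩
      mul_mem' := fun {a b} ⟨c, hc⟩ ⟨d, hd⟩ => ⟨c * d, by
        rw [map_mul, hc, hd, smul_mul_smul_comm, one_mul]⟩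
      inv_mem' := fun {a} ⟨c, hc⟩ => ⟨c⁻¹, by
        have hinv : ρ a⁻¹ * ρ a = 1 := by rw [← map_mul, inv_mul_cancel, map_one]
        have hc0 : c ≠ 0 := by
          rintro rfl
          have := Rep.nontrivial_of_irreducible ρ
          rw [hc, zero_smul, mul_zero] at hinv
          exact zero_ne_one hinv
        rw [hc, mul_smul_comm, mul_one] at hinv
        rw [← hinv, smul_smul, inv_mul_cancel₀ hc0, one_smul]⟩ }
  have hMZ : M ≤ Z := by
    by_contra hMZ
    have hex2 : ∃ (m : ℕ) (A : Subgroup U), Nat.card A = m ∧ A.Normal ∧ A ≤ M ∧ ¬ A ≤ Z :=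
      ⟨_, M, rfl, hMn, le_rfl, hMZ⟩
    obtain ⟨A, hAc, hAn, hAM, hAZ⟩ := Nat.find_spec hex2
    have hA0 : A ≠ ⊥ := fun h => hAZ (h ▸ bot_le)
    have hlt : ⁅A, A⁆ < A := Group.IsSolvable.commutator_lt_of_ne_bot hA0
    have hAA : ⁅A, A⁆ ≤ Z := by
      by_contra h
      have h1 := Nat.find_min' hex2 ⟨⁅A, A⁆, rfl, commutator_normal A A, hlt.le.trans hAM, h⟩
      rw [← hAc] at h1
      exact hlt.ne (eq_of_le_of_card_ge hlt.le h1)
    let f : A →* (Module.End ℂ (Fin n → ℂ))ˣ :=
      MonoidHom.toHomUnits ((ρ : U →* Module.End ℂ (Fin n → ℂ)).comp A.subtype)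
    have hfval : ∀ a : A, (f a : Module.End ℂ (Fin n → ℂ)) = ρ (a : U) := fun a => rfl
    have hcomm : ∀ a b : A, ρ (a : U) * ρ (b : U) = ρ (b : U) * ρ (a : U) := by
      have hcen : _root_.commutator f.range ≤ center f.range := by
        rw [_root_.commutator_def, commutator_le]
        rintro ⟨_, a, rfl⟩ - ⟨_, b, rfl⟩ -
        rw [mem_center_iff]
        rintro ⟨_, c, rfl⟩
        obtain ⟨t, ht⟩ := hAA (commutator_mem_commutator a.2 b.2)
        have hab : ((⁅(⟨f a, a, rfl⟩ : f.range), ⟨f b, b, rfl⟩⁆ : f.range) :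
            (Module.End ℂ (Fin n → ℂ))ˣ) = f ⁅a, b⁆ := by
          rw [map_commutatorElement]; rfl
        refine Subtype.ext (Units.ext ?_)
        rw [Subgroup.coe_mul, Subgroup.coe_mul, hab, Units.val_mul, Units.val_mul, hfval, hfval,
          show ((⁅a, b⁆ : A) : U) = ⁅(a : U), (b : U)⁆ from map_commutatorElement A.subtype a b,
          ht, mul_smul_comm, smul_mul_assoc, mul_one, one_mul]
      have hS : ∀ (p : ℕ) [Fact p.Prime] (P : Sylow p f.range),
          ∀ x ∈ P, ∀ y ∈ P, x * y = y * x := by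
        intro p hp P
        obtain ⟨S, rfl⟩ := Sylow.mapSurjective_surjective f.rangeRestrict_surjective p P
        rintro _ ⟨x, hx, rfl⟩ _ ⟨y, hy, rfl⟩
        have hP : IsPGroup p (((S : Subgroup A).map A.subtype).map U.subtype) :=
          (S.2.map _).map _
        have := habP p hp.out _ hP (by
          rintro _ ⟨_, ⟨z, -, rfl⟩, rfl⟩
          exact hAM z.2) _ ⟨_, ⟨x, hx, rfl⟩, rfl⟩ _ ⟨_, ⟨y, hy, rfl⟩, rfl⟩
        have hxy : x * y = y * x := Subtype.ext (Subtype.ext this)
        rw [← map_mul, ← map_mul, hxy]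
      intro a b
      have h := commute_of_central_derived hcen hS ⟨f a, a, rfl⟩ ⟨f b, b, rfl⟩
      exact congrArg (fun x : f.range => (((x : (Module.End ℂ (Fin n → ℂ))ˣ)) : Module.End ℂ (Fin n → ℂ))) h
    obtain ⟨φ, hφ⟩ := exists_constituent_restrict A hξ
    obtain ⟨-, hsc⟩ := scalar_of_commute ρ A φ (by rw [hρc]; exact hφ) (hhom A φ hφ) hcomm
    exact hAZ fun x hx => hsc ⟨x, hx⟩
  -- conclusion: `ξ` is linear
  refine ⟨U, ξ, hξc, ?_, hind⟩
  obtain ⟨φ, hφ⟩ := exists_constituent_restrict M hξ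
  obtain ⟨hφ1, -⟩ := scalar_of_commute ρ M φ (by rw [hρc]; exact hφ) (hhom M φ hφ) (fun a b => by
    obtain ⟨c, hc⟩ := hMZ a.2
    rw [hc, smul_mul_assoc, mul_smul_comm, one_mul, mul_one])
  -- transport `φ` to `U ∩ N` inside `N`
  let M' : Subgroup N := U.subgroupOf N
  let toM : M' →* M :=
    { toFun := fun x => ⟨⟨((x : N) : G), mem_subgroupOf.mp x.2⟩, mem_subgroupOf.mpr (x : N).2⟩
      map_one' := rfl
      map_mul' := fun _ _ => rfl }
  have hbij : Function.Bijective toM :=
    ⟨fun x y h => Subtype.ext (Subtype.ext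
        (congrArg (fun z : M => ((z : U) : G)) h)),
      fun z => ⟨⟨⟨((z : U) : G), mem_subgroupOf.mp z.2⟩, mem_subgroupOf.mpr (z : U).2⟩, rfl⟩⟩
  have hφ' : Cfsg.IsIrrCharacter M' ((φ : M → ℂ) ∘ toM) := isIrrCharacter_comp toM hbij.2 φ.2
  have hne : Cfsg.classInner (fun x : M => χ ((x : U) : G)) φ ≠ 0 := by
    have h1 : Cfsg.classInner (fun u : U => χ u) (⟨ξ, hξ⟩ : Cfsg.IrrCharacter U) ≠ 0 := by
      apply classInner_ne_zero_symm
      show Cfsg.classInner ξ _ ≠ 0
      rw [← frobenius_reciprocity U ξ hχcl, hind, classInner_self_irr ⟨χ, hχ⟩]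
      exact one_ne_zero
    exact classInner_comp_ne_zero M.subtype
      (isCharacter_comp U.subtype (IsCharacter_of_isIrrCharacter hχ)) h1 hφ
  have hind' : Cfsg.classInner (Cfsg.indFun M' ((φ : M → ℂ) ∘ toM))
      (⟨_, hN⟩ : Cfsg.IrrCharacter N) ≠ 0 := by
    rw [frobenius_reciprocity M' _ (isClassFunction_irr (⟨_, hN⟩ : Cfsg.IrrCharacter N))]
    intro h
    apply classInner_ne_zero_symm hne
    rw [← h]
    simp only [Cfsg.classInner, Nat.card_eq_of_bijective toM hbij]
    congr 1
    exact (Fintype.sum_bijective toM hbij _ _ fun x => rfl).symm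
  obtain ⟨m, r, hr, hm, -, hdec⟩ := exists_eq_nsmul_add
    (Lib.Induced.Character.isCharacter_indFun M' (IsCharacter_of_isIrrCharacter hφ')) ⟨_, hN⟩
  have hm0 : m ≠ 0 := fun h => hind' (by rw [hm, h, Nat.cast_zero])
  obtain ⟨c, hc⟩ := exists_degree hr
  obtain ⟨d, hd⟩ := exists_degree hξc
  have hidx : M'.index = U.index := by
    have h1 : Nat.card M = Nat.card M' := (Nat.card_eq_of_bijective toM hbij).symm
    have h2 := M.card_mul_index
    have h3 := M'.card_mul_index
    have h4 : M.index = N.index := by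
      rw [← relIndex_top_right (H := N), ← hUN, sup_comm, sup_comm, relIndex_sup_right]
      rfl
    have h5 := N.card_mul_index
    have h6 := U.card_mul_index
    have h7 : 0 < Nat.card M' := Nat.card_pos
    have h8 : 0 < N.index := Nat.pos_of_ne_zero index_ne_zero_of_finite
    have : Nat.card M' * N.index * M'.index = Nat.card M' * N.index * U.index := by
      calc Nat.card M' * N.index * M'.index = N.index * (Nat.card M' * M'.index) := by ring
        _ = Nat.card U * U.index := by rw [h3, mul_comm, h5, h6]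
        _ = Nat.card M' * N.index * U.index := by rw [← h2, h4, h1]
    exact Nat.eq_of_mul_eq_mul_left (Nat.mul_pos h7 h8) this
  have hdeg := congrFun hdec 1
  have hchi1 : ((⟨_, hN⟩ : Cfsg.IrrCharacter N) : N → ℂ) 1 = (U.index : ℂ) * (d : ℂ) := by
    show χ ((1 : N) : G) = _
    rw [OneMemClass.coe_one, ← hind, indFun_one, hd]
  rw [indFun_one, Function.comp_apply, map_one, hφ1, mul_one, hidx, Pi.add_apply,
    Pi.smul_apply, hc, hchi1, nsmul_eq_mul] at hdeg
  have h9 : U.index = m * (U.index * d) + c := by exact_mod_cast hdeg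
  have hd0 : d ≠ 0 := fun h => degree_pos hξ (by rw [hd, h, Nat.cast_zero])
  have hU0 : 0 < U.index := Nat.pos_of_ne_zero index_ne_zero_of_finite
  have hd1 : d ≤ 1 := by
    by_contra h
    push Not at h
    have h10 : U.index * 2 ≤ U.index * d := Nat.mul_le_mul_left _ h
    have h11 : U.index * d ≤ m * (U.index * d) :=
      Nat.le_mul_of_pos_left _ (Nat.pos_of_ne_zero hm0)
    omega
  rw [hd, show d = 1 by omega, Nat.cast_one]

end Cfsg.Agent.Lib.Clifford.Monomial
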