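import Cfsg.Agent.Lib.Clifford.Basic
import Cfsg.Agent.Lib.Clifford.Monomial
import Cfsg.Agent.Lib.Characters.Degree

/-!
# Itô's theorem
-/

set_option autoImplicit false

namespace Cfsg.Agent.Lib.Clifford.Ito

open scoped ComplexConjugate
open Cfsg.Agent.Lib.Induced.Basic Cfsg.Agent.Lib.Characters.Basic Cfsg.Agent.Lib.Characters
open Cfsg.Agent.Lib.Clifford.Basic Subgroup

universe u v

variable {G : Type u} [Group G] [Finite G]

/-- The degree of a faithful irreducible representation divides the index of a central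
subgroup. -/
theorem finrank_dvd_index_of_central {V : Type v} [AddCommGroup V] [Module ℂ V]
    [FiniteDimensional ℂ V] (ρ : Representation ℂ G V) [ρ.IsIrreducible]
    (hfaith : ∀ g, ρ g = 1 → g = 1) (Z : Subgroup G) [Z.Normal] (hZ : Z ≤ center G) :
    Module.finrank ℂ V ∣ Z.index := by
  classical
  have := Fintype.ofFinite G
  set n : ℕ := Module.finrank ℂ V
  have hn : 0 < n := finrank_pos_of_isIrreducible ρ
  -- central elements act by scalars of absolute value one
  have hscal : ∀ z ∈ Z, ∃ c : ℂ, ρ z = c • (1 : Module.End ℂ V) := fun z hz => by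
    refine Rep.schur ρ (ρ z) fun g => ?_
    rw [← map_mul, ← map_mul, (mem_center_iff.mp (hZ hz) g)]
  have hmul : ∀ z ∈ Z, ∀ c : ℂ, ρ z = c • (1 : Module.End ℂ V) → ∀ g,
      ρ.character (g * z) = c * ρ.character g := fun z _ c hc g => by
    show LinearMap.trace ℂ V (ρ (g * z)) = c * LinearMap.trace ℂ V (ρ g)
    rw [map_mul, hc, mul_smul_comm, mul_one, map_smul, smul_eq_mul]
  let f : G → ℂ := fun g => ρ.character g * conj (ρ.character g)
  have hfz : ∀ g, ∀ z ∈ Z, f (g * z) = f g := fun g z hz => by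
    obtain ⟨c, hc⟩ := hscal z hz
    have hnorm : ‖ρ.character z‖ = (n : ℝ) := (Diag.norm_char_eq_finrank_iff ρ z).mpr ⟨c, hc⟩
    have hcn : ρ.character z = c * (n : ℂ) := by
      have h := hmul z hz c hc 1
      rwa [one_mul, Representation.char_one] at h
    rw [hcn, norm_mul, Complex.norm_natCast] at hnorm
    have hc1 : ‖c‖ = 1 := by
      have : (0 : ℝ) < n := by exact_mod_cast hn
      exact (mul_left_eq_self₀.mp hnorm).resolve_right this.ne'
    have hcc : c * conj c = 1 := by rw [Complex.mul_conj', hc1]; simp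
    simp only [f, hmul z hz c hc g, map_mul]
    linear_combination (ρ.character g * conj (ρ.character g)) * hcc
  let F : G ⧸ Z → ℂ := fun q => f q.out
  have hF : ∀ g : G, F (g : G ⧸ Z) = f g := fun g => by
    obtain ⟨z, hz⟩ := QuotientGroup.mk_out_eq_mul Z g
    simp only [F]
    rw [hz]
    exact hfz g z z.2
  have := Fintype.ofFinite (G ⧸ Z)
  have := Fintype.ofFinite (ConjClasses (G ⧸ Z))
  have hsum : (∑ q : G ⧸ Z, F q) = (Z.index : ℂ) := by
    have h : Cfsg.classInner ρ.character ρ.character = 1 := classInner_self_irr (irrChar ρ)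
    rw [Cfsg.classInner, inv_mul_eq_one₀ natCard_ne_zero] at h
    have h2 : ∑ g : G, f g = (Nat.card Z : ℂ) * ∑ q : G ⧸ Z, F q := by
      rw [← Finset.sum_fiberwise Finset.univ (QuotientGroup.mk : G → G ⧸ Z), Finset.mul_sum]
      refine Finset.sum_congr rfl fun q _ => ?_
      rw [Finset.sum_congr rfl (g := fun _ => F q) fun g hg => by
        rw [← (Finset.mem_filter.mp hg).2, hF], Finset.sum_const, nsmul_eq_mul]
      congr 2
      obtain ⟨g₀, rfl⟩ := QuotientGroup.mk_surjective q
      rw [Nat.card_eq_fintype_card, ← Finset.card_univ (α := Z)]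
      refine Finset.card_bij' (fun g hg => ⟨g₀⁻¹ * g, ?_⟩) (fun z _ => g₀ * z)
        (fun _ _ => Finset.mem_univ _) (fun z _ => ?_) (fun g _ => by simp) (fun z _ => by simp)
      · exact QuotientGroup.eq.mp (Finset.mem_filter.mp hg).2.symm
      · simp
    rw [show (∑ g : G, ρ.character g * conj (ρ.character g)) = ∑ g : G, f g from rfl, h2,
      ← Z.card_mul_index, Nat.cast_mul] at h
    exact (mul_left_cancel₀ (subgroup_card_ne_zero Z) h).symm
  have hint : IsIntegral ℤ ((Z.index : ℂ) / n) := by
    rw [← hsum, ← Finset.sum_fiberwise Finset.univ (ConjClasses.mk : G ⧸ Z → ConjClasses (G ⧸ Z)),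
      Finset.sum_div]
    refine IsIntegral.sum _ fun c _ => ?_
    obtain ⟨x, rfl⟩ := ConjClasses.mk_surjective c
    obtain ⟨g, rfl⟩ := QuotientGroup.mk_surjective x
    have hval : ∀ q ∈ Finset.univ.filter
        (fun q : G ⧸ Z => ConjClasses.mk q = ConjClasses.mk (g : G ⧸ Z)), F q = f g := by
      intro q hq
      obtain ⟨h, rfl⟩ := QuotientGroup.mk_surjective q
      rw [Finset.mem_filter, ConjClasses.mk_eq_mk_iff_isConj] at hq
      obtain ⟨k, hk⟩ := isConj_iff.mp hq.2.symm
      obtain ⟨k, rfl⟩ := QuotientGroup.mk_surjective k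
      rw [← hk, ← QuotientGroup.mk_mul, ← QuotientGroup.mk_inv, ← QuotientGroup.mk_mul, hF]
      simp [f]
    rw [Finset.sum_congr rfl hval, Finset.sum_const, nsmul_eq_mul]
    by_cases hg : ρ.character g = 0
    · simp only [f, hg, zero_mul, mul_zero, zero_div]
      exact isIntegral_zero
    have hcard : (Finset.univ.filter
        (fun q : G ⧸ Z => ConjClasses.mk q = ConjClasses.mk (g : G ⧸ Z))).card =
        (Subgroup.centralizer ({g} : Set G)).index := by
      have h1 : (Finset.univ.filter
          (fun q : G ⧸ Z => ConjClasses.mk q = ConjClasses.mk (g : G ⧸ Z))).card =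
          (Subgroup.centralizer ({(g : G ⧸ Z)} : Set (G ⧸ Z))).index := by
        rw [← Cfsg.Agent.Lib.Induced.Integral.nat_card_carrier, Nat.card_eq_fintype_card,
          ← Set.toFinset_card]
        congr 1
        ext q
        simp [ConjClasses.mem_carrier_iff_mk_eq]
      rw [h1, ← Subgroup.index_comap_of_surjective _ (QuotientGroup.mk'_surjective Z)]
      congr 1
      ext x
      rw [mem_comap, mem_centralizer_singleton_iff, mem_centralizer_singleton_iff]
      constructor
      · intro h
        have hz : (g * x)⁻¹ * (x * g) ∈ Z := by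
          rw [← QuotientGroup.eq]
          exact h.symm
        obtain ⟨c, hc⟩ := hscal _ hz
        have hconj : x * g * x⁻¹ = g * ((g * x)⁻¹ * (x * g)) := by
          have hcen := mem_center_iff.mp (hZ hz) x⁻¹
          calc x * g * x⁻¹ = g * x * ((g * x)⁻¹ * (x * g)) * x⁻¹ := by group
            _ = g * x * (x⁻¹ * ((g * x)⁻¹ * (x * g))) := by rw [mul_assoc, ← hcen]
            _ = g * ((g * x)⁻¹ * (x * g)) := by group
        have h1 := hmul _ hz c hc g
        rw [← hconj, Representation.char_conj] at h1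
        have hc1 : c = 1 := (mul_eq_right₀ hg).mp h1.symm
        rw [hc1, one_smul] at hc
        exact (inv_mul_eq_one.mp (hfaith _ hc)).symm
      · intro h
        show (x : G ⧸ Z) * (g : G ⧸ Z) = (g : G ⧸ Z) * (x : G ⧸ Z)
        rw [← QuotientGroup.mk_mul, h, QuotientGroup.mk_mul]
    rw [hcard]
    show IsIntegral ℤ (((Subgroup.centralizer ({g} : Set G)).index : ℂ) *
      (ρ.character g * conj (ρ.character g)) / n)
    rw [← mul_assoc, mul_div_right_comm]
    exact (Cfsg.Agent.Lib.Induced.Integral.isIntegral_centralCharacter ρ g).mul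
      (Degree.isIntegral_conj (Diag.isIntegral_char ρ g))
  have hq : IsIntegral ℤ ((Z.index : ℚ) / n) := by
    refine (isIntegral_algHom_iff ((algebraMap ℚ ℂ).toIntAlgHom)
      (algebraMap ℚ ℂ).injective).mp ?_
    simpa using hint
  obtain ⟨m, hm⟩ := IsIntegrallyClosed.isIntegral_iff.mp hq
  have : (m : ℚ) * n = (Z.index : ℚ) := by
    rw [eq_intCast] at hm
    rw [hm, div_mul_cancel₀ _ (Nat.cast_ne_zero.mpr hn.ne')]
  exact Int.natCast_dvd_natCast.mp ⟨m, by rw [mul_comm]; exact_mod_cast this.symm⟩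

/-- The degree divides the index of a subgroup acting by scalars. -/
theorem finrank_dvd_index_of_scalar {V : Type v} [AddCommGroup V] [Module ℂ V]
    [FiniteDimensional ℂ V] (ρ : Representation ℂ G V) [hρ : ρ.IsIrreducible] (A : Subgroup G)
    (hA : ∀ a ∈ A, ∃ c : ℂ, ρ a = c • (1 : Module.End ℂ V)) :
    Module.finrank ℂ V ∣ A.index := by
  let K := MonoidHom.ker (ρ : G →* Module.End ℂ V)
  let σ : Representation ℂ (G ⧸ K) V := QuotientGroup.lift K ρ fun g hg => hg
  have hσirr : σ.IsIrreducible := by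
    let F : Subrepresentation σ ≃o Subrepresentation ρ :=
      { toFun := fun p => ⟨p.toSubmodule, fun g _ hv => p.apply_mem_toSubmodule (g : G ⧸ K) hv⟩
        invFun := fun q => ⟨q.toSubmodule, fun g v hv => by
          induction g using QuotientGroup.induction_on with
          | _ g => exact q.apply_mem_toSubmodule g hv⟩
        left_inv := fun _ => rfl
        right_inv := fun _ => rfl
        map_rel_iff' := Iff.rfl }
    exact F.isSimpleOrder_iff.mpr hρ
  have hfaith : ∀ q, σ q = 1 → q = 1 := by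
    intro q hq
    induction q using QuotientGroup.induction_on with
    | _ g => exact (QuotientGroup.eq_one_iff g).mpr hq
  have hmap : A.map (QuotientGroup.mk' K) ≤ center (G ⧸ K) := by
    rintro _ ⟨a, ha, rfl⟩
    obtain ⟨c, hc⟩ := hA a ha
    rw [mem_center_iff]
    intro q
    have hσa : σ (QuotientGroup.mk' K a) = c • (1 : Module.End ℂ V) := hc
    have h1 : σ (q * QuotientGroup.mk' K a) = σ (QuotientGroup.mk' K a * q) := by
      rw [map_mul, map_mul, hσa, mul_smul_comm, smul_mul_assoc, mul_one, one_mul]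
    refine (inv_mul_eq_one.mp (hfaith _ ?_)).symm
    rw [map_mul, h1, ← map_mul, inv_mul_cancel, map_one]
  have : (A.map (QuotientGroup.mk' K)).Normal := ⟨fun z hz g => by
    rw [mem_center_iff.mp (hmap hz) g, mul_inv_cancel_right]
    exact hz⟩
  exact (finrank_dvd_index_of_central σ hfaith _ hmap).trans
    (A.index_map_dvd (QuotientGroup.mk'_surjective K))

/-- Itô's theorem. -/
theorem degree_dvd_index (A : Subgroup G) [A.Normal] (hA : ∀ a ∈ A, ∀ b ∈ A, a * b = b * a)
    (χ : Cfsg.IrrCharacter G) :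
    ∃ d : ℕ, (χ : G → ℂ) 1 = d ∧ d ∣ A.index := by
  classical
  have := Fintype.ofFinite G
  obtain ⟨φ, hφ⟩ := exists_constituent_restrict A χ.2
  set T := inertia A (φ : A → ℂ) with hT
  have hAT : A ≤ T := le_inertia A (isClassFunction_irr φ)
  obtain ⟨ψ, hψ, hind, hψA, -⟩ := exists_correspondent A χ.2 φ hφ T hT hAT
  obtain ⟨n, ρ, hρ, hρc⟩ := hψ
  obtain ⟨e, he⟩ := exists_classInner_nat (isCharacter_comp A.subtype (isCharacter_irr χ))
    (isCharacter_irr φ)
  have he' : Cfsg.classInner (fun a : A => (χ : G → ℂ) a) φ = (e : ℂ) := he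
  have he0 : e ≠ 0 := fun h => hφ (by rw [he', h, Nat.cast_zero])
  let eA : A.subgroupOf T ≃* A := subgroupOfEquivOfLe hAT
  have hnT : (A.subgroupOf T).Normal := Subgroup.normal_subgroupOf
  let φ' : Cfsg.IrrCharacter (A.subgroupOf T) :=
    ⟨(φ : A → ℂ) ∘ eA.toMonoidHom, isIrrCharacter_comp eA.toMonoidHom eA.surjective φ.2⟩
  have hres : (fun a : A.subgroupOf T => ρ.character (a : T)) = (e : ℂ) • (φ' : A.subgroupOf T → ℂ) := by
    funext a
    have := congrFun hψA (eA a)
    rw [he', ← hρc] at this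
    exact this
  obtain ⟨-, hsc⟩ := Monomial.scalar_of_commute ρ (A.subgroupOf T) φ'
    (by rw [hres, classInner_smul_left, classInner_self_irr, mul_one]; exact_mod_cast he0)
    (by
      intro t
      funext a
      exact congrFun ((mem_inertia A).mp (hT ▸ t.2 : (t : G) ∈ inertia A (φ : A → ℂ))) (eA a))
    (fun a b => by
      rw [← map_mul, ← map_mul]
      exact congrArg ρ (Subtype.ext (hA _ (mem_subgroupOf.mp a.2) _ (mem_subgroupOf.mp b.2))))
  have hdvd : Module.finrank ℂ (Fin n → ℂ) ∣ (A.subgroupOf T).index :=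
    finrank_dvd_index_of_scalar ρ (A.subgroupOf T) fun a ha => hsc ⟨a, ha⟩
  refine ⟨T.index * Module.finrank ℂ (Fin n → ℂ), ?_, ?_⟩
  · rw [← hind, indFun_one, ← hρc, Representation.char_one]
    push_cast
    ring
  · rw [← relIndex_mul_index hAT, mul_comm]
    exact Nat.mul_dvd_mul_right hdvd _

end Cfsg.Agent.Lib.Clifford.Ito
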