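import Cfsg.Prelude.Def_Characters
import Mathlib

/-!
# Linear characters: bridge with `G →* ℂˣ`, and extension from normal subgroups
-/

set_option autoImplicit false

namespace Cfsg.Agent.Lib.Clifford.Linear

open Subgroup

universe u

variable {G : Type u} [Group G]

/-- The complex-valued function of a homomorphism to `ℂˣ`. -/
def toFunHom : (G →* ℂˣ) →* (G → ℂ) where
  toFun μ g := (μ g : ℂ)
  map_one' := rfl
  map_mul' _ _ := rfl

theorem toFunHom_injective : Function.Injective (toFunHom (G := G)) := fun _ _ h =>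
  MonoidHom.ext fun g => Units.ext (congrFun h g)

theorem orderOf_toFunHom (μ : G →* ℂˣ) : orderOf (toFunHom μ) = orderOf μ :=
  orderOf_injective _ toFunHom_injective μ

theorem isCharacter_toFunHom (μ : G →* ℂˣ) :
    Cfsg.IsCharacter G (toFunHom μ) ∧ toFunHom μ 1 = 1 := by
  refine ⟨⟨1, (algebraMap ℂ (Module.End ℂ (Fin 1 → ℂ))).toMonoidHom.comp
    ((Units.coeHom ℂ).comp μ), ?_⟩, by simp [toFunHom]⟩
  funext g
  show LinearMap.trace ℂ _ (algebraMap ℂ (Module.End ℂ (Fin 1 → ℂ)) (μ g : ℂ)) = _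
  rw [Algebra.algebraMap_eq_smul_one, map_smul, LinearMap.trace_one]
  simp [toFunHom]

/-- A character of degree one comes from a homomorphism to `ℂˣ`. -/
theorem exists_hom {lam : G → ℂ} (h : Cfsg.IsCharacter G lam ∧ lam 1 = 1) :
    ∃ μ : G →* ℂˣ, toFunHom μ = lam := by
  obtain ⟨⟨n, ρ, rfl⟩, h1⟩ := h
  rw [Representation.char_one, Nat.cast_eq_one, Module.finrank_fin_fun] at h1
  subst h1
  have key : ∀ f : Module.End ℂ (Fin 1 → ℂ), f = LinearMap.trace ℂ _ f • (1 : Module.End ℂ _) := by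
    intro f
    have hs : ∀ v : Fin 1 → ℂ, f v = (f 1 0) • v := by
      intro v
      have hv : v = v 0 • (1 : Fin 1 → ℂ) := by
        funext i
        rw [Fin.fin_one_eq_zero i]
        simp
      conv_lhs => rw [hv, map_smul]
      funext i
      rw [Fin.fin_one_eq_zero i]
      simp [mul_comm]
    have h2 : f = (f 1 0) • (1 : Module.End ℂ (Fin 1 → ℂ)) := LinearMap.ext fun v => by
      rw [hs v, LinearMap.smul_apply, Module.End.one_apply]
    conv_rhs => rw [h2, map_smul, LinearMap.trace_one]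
    simpa using h2
  have hmul : ∀ a b : G, ρ.character (a * b) = ρ.character a * ρ.character b := by
    intro a b
    show LinearMap.trace ℂ _ (ρ (a * b)) = LinearMap.trace ℂ _ (ρ a) * LinearMap.trace ℂ _ (ρ b)
    conv_lhs => rw [map_mul, key (ρ a), smul_one_mul, map_smul]
    rfl
  let F : G →* ℂ :=
    { toFun := ρ.character, map_one' := by simp, map_mul' := hmul }
  exact ⟨F.toHomUnits, rfl⟩

theorem exists_mul_index_of_coprime {m k : ℕ} (h : Nat.Coprime m k) :
    ∃ a : ℤ, (k : ℤ) ∣ a * m - 1 := by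
  refine ⟨Nat.gcdA m k, ⟨-Nat.gcdB m k, ?_⟩⟩
  have h1 := Nat.gcd_eq_gcd_ab m k
  rw [h.gcd_eq_one, Nat.cast_one] at h1
  linear_combination -h1

theorem zpow_zpow_eq_self {M : Type*} [Group M] {x : M} {m k : ℕ} (hx : x ^ k = 1) {a : ℤ}
    (ha : (k : ℤ) ∣ a * m - 1) : (x ^ m) ^ a = x := by
  obtain ⟨b, hb⟩ := ha
  rw [← zpow_natCast, ← zpow_mul, show (m : ℤ) * a = k * b + 1 by linarith, zpow_add, zpow_mul,
    zpow_natCast, hx, one_zpow, one_mul, zpow_one]

/-- Transfer to `G` of a homomorphism that is `G`-invariant on the normal subgroup `N ≤ H`. -/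
theorem transfer_restrict (N H : Subgroup G) [hN : N.Normal] (hNH : N ≤ H) [H.FiniteIndex]
    {A : Type*} [CommGroup A] (ν : H →* A)
    (hinv : ∀ (g : G) (n : N),
      ν ⟨g * n * g⁻¹, hNH (hN.conj_mem (n : G) n.2 g)⟩ = ν ⟨n, hNH n.2⟩)
    (n : N) : ν.transfer (n : G) = ν ⟨n, hNH n.2⟩ ^ H.index := by
  classical
  let := H.fintypeQuotientOfFiniteIndex
  rw [MonoidHom.transfer_eq_prod_quotient_orbitRel_zpowers_quot,
    Subgroup.index_eq_sum_minimalPeriod H (n : G), ← Finset.prod_pow_eq_pow_sum]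
  refine Finset.prod_congr rfl fun q _ => ?_
  rw [← map_pow]
  have h := hinv (q.out.out)⁻¹ (n ^ Function.minimalPeriod ((n : G) • ·) q.out)
  simpa only [SubgroupClass.coe_pow, inv_inv, SubmonoidClass.mk_pow] using h

variable [Finite G]

/-- Sylow-wise extension of an invariant linear character. -/
theorem exists_extension_of_sylow (N : Subgroup G) [hN : N.Normal] (lam : N →* ℂˣ)
    (hinv : ∀ (g : G) (n : N), lam ⟨g * n * g⁻¹, hN.conj_mem (n : G) n.2 g⟩ = lam n)
    (hsyl : ∀ p : ℕ, p.Prime → p ∣ orderOf lam → ∃ (H : Subgroup G) (hNH : N ≤ H)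
      (ν : H →* ℂˣ), Nat.Coprime H.index p ∧ ∀ n : N, ν ⟨n, hNH n.2⟩ = lam n) :
    ∃ μ : G →* ℂˣ, ∀ n : N, μ n = lam n := by
  classical
  -- the set of exponents `k` with `lam ^ k` extendible is a subgroup of `ℤ`
  let R : AddSubgroup ℤ :=
    { carrier := {k | ∃ μ : G →* ℂˣ, ∀ n : N, μ n = lam n ^ k}
      zero_mem' := ⟨1, fun n => by simp⟩
      add_mem' := fun {a b} ⟨μ, hμ⟩ ⟨μ', hμ'⟩ => ⟨μ * μ', fun n => by simp [hμ, hμ', zpow_add]⟩
      neg_mem' := fun {a} ⟨μ, hμ⟩ => ⟨μ⁻¹, fun n => by simp [hμ]⟩ }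
  obtain ⟨d, hd⟩ := Int.subgroup_cyclic R
  have ho : (orderOf lam : ℤ) ∈ R := ⟨1, fun n => by
    rw [zpow_natCast, ← MonoidHom.pow_apply, pow_orderOf_eq_one]
    rfl⟩
  suffices h : d.natAbs = 1 by
    have h1 : (1 : ℤ) ∈ R := by
      rw [hd, AddSubgroup.mem_closure_singleton]
      rcases Int.natAbs_eq d with hh | hh
      · exact ⟨1, by rw [hh, h]; simp⟩
      · exact ⟨-1, by rw [hh, h]; simp⟩
    obtain ⟨μ, hμ⟩ := h1
    exact ⟨μ, fun n => by rw [hμ n, zpow_one]⟩
  by_contra hne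
  obtain ⟨p, hp, hpd⟩ := Nat.exists_prime_and_dvd hne
  have hmem : ∀ k ∈ R, (p : ℤ) ∣ k := by
    intro k hk
    rw [hd, AddSubgroup.mem_closure_singleton] at hk
    obtain ⟨j, rfl⟩ := hk
    rw [smul_eq_mul]
    exact (Int.natCast_dvd.mpr hpd).mul_left j
  have hpo : p ∣ orderOf lam := Int.natCast_dvd_natCast.mp (hmem _ ho)
  obtain ⟨H, hNH, ν, hcop, hν⟩ := hsyl p hp hpo
  have hidx : (H.index : ℤ) ∈ R := by
    refine ⟨ν.transfer, fun n => ?_⟩
    rw [transfer_restrict N H hNH ν, hν, zpow_natCast]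
    intro g m
    rw [hν m, ← hinv g m]
    exact hν ⟨g * m * g⁻¹, hN.conj_mem (m : G) m.2 g⟩
  have := Int.natCast_dvd_natCast.mp (hmem _ hidx)
  exact (hp.coprime_iff_not_dvd.mp hcop.symm) this

/-- The canonical extension of an invariant linear character of order prime to the index. -/
theorem exists_coprime_extension (N : Subgroup G) [hN : N.Normal] (lam : N →* ℂˣ)
    (hinv : ∀ (g : G) (n : N), lam ⟨g * n * g⁻¹, hN.conj_mem (n : G) n.2 g⟩ = lam n)
    (hcop : Nat.Coprime N.index (orderOf lam)) :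
    ∃ μ : G →* ℂˣ, (∀ n : N, μ n = lam n) ∧ orderOf μ = orderOf lam := by
  obtain ⟨a, ha⟩ := exists_mul_index_of_coprime hcop
  have hk : ∀ x : N, lam x ^ orderOf lam = 1 := fun x => by
    rw [← MonoidHom.pow_apply, pow_orderOf_eq_one]; rfl
  refine ⟨lam.transfer ^ a, ?_, ?_⟩
  · intro n
    show lam.transfer (n : G) ^ a = lam n
    rw [transfer_restrict N N le_rfl lam (fun g m => hinv g m) n]
    exact zpow_zpow_eq_self (hk n) ha
  · apply Nat.dvd_antisymm
    · apply orderOf_dvd_of_pow_eq_one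
      refine MonoidHom.ext fun g => ?_
      classical
      have h1 : lam.transfer g ^ orderOf lam = 1 := by
        let := N.fintypeQuotientOfFiniteIndex
        rw [MonoidHom.transfer_eq_prod_quotient_orbitRel_zpowers_quot, ← Finset.prod_pow]
        exact Finset.prod_eq_one fun q _ => hk _
      show (lam.transfer g ^ a) ^ orderOf lam = 1
      rw [← zpow_natCast, ← zpow_mul, mul_comm, zpow_mul, zpow_natCast, h1, one_zpow]
    · apply orderOf_dvd_of_pow_eq_one
      refine MonoidHom.ext fun n => ?_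
      have h2 : lam.transfer (n : G) = lam n ^ N.index :=
        transfer_restrict N N le_rfl lam (fun g m => hinv g m) n
      have h3 : (lam.transfer ^ a) (n : G) = lam n := by
        show lam.transfer (n : G) ^ a = lam n
        rw [h2]
        exact zpow_zpow_eq_self (hk n) ha
      show lam n ^ orderOf (lam.transfer ^ a) = 1
      rw [← h3, ← MonoidHom.pow_apply, pow_orderOf_eq_one]
      rfl

omit [Finite G] in
/-- Uniqueness of extensions of order prime to the index. -/
theorem extension_unique (N : Subgroup G) [N.Normal] {μ μ' : G →* ℂˣ}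
    (h : ∀ n : N, μ n = μ' n) (hc : Nat.Coprime N.index (orderOf μ))
    (hc' : Nat.Coprime N.index (orderOf μ')) : μ = μ' := by
  refine MonoidHom.ext fun g => ?_
  have h1 : (μ g / μ' g) ^ N.index = 1 := by
    rw [div_pow, ← map_pow, ← map_pow, div_eq_one]
    exact h ⟨g ^ N.index, Subgroup.pow_index_mem N g⟩
  have hμ : μ g ^ orderOf μ = 1 := by
    rw [← MonoidHom.pow_apply, pow_orderOf_eq_one]; rfl
  have hμ' : μ' g ^ orderOf μ' = 1 := by
    rw [← MonoidHom.pow_apply, pow_orderOf_eq_one]; rfl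
  have h2 : (μ g / μ' g) ^ (orderOf μ * orderOf μ') = 1 := by
    rw [div_pow, pow_mul, hμ, one_pow, mul_comm, pow_mul, hμ', one_pow, div_one]
  have h3 := orderOf_eq_one_iff.mp (Nat.eq_one_of_dvd_coprimes (hc.mul_right hc')
    (orderOf_dvd_of_pow_eq_one h1) (orderOf_dvd_of_pow_eq_one h2))
  exact div_eq_one.mp h3

end Cfsg.Agent.Lib.Clifford.Linear
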