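import Cfsg.Agent.Lib.Clifford.Gallagher
import Cfsg.Agent.Lib.Characters.Linear

/-!
# Going down through an abelian chief factor
-/

set_option autoImplicit false

namespace Cfsg.Agent.Lib.Clifford.GoingDown

open scoped ComplexConjugate
open Cfsg.Agent.Lib.Induced.Basic Cfsg.Agent.Lib.Characters.Basic Cfsg.Agent.Lib.Characters
open Cfsg.Agent.Lib.Clifford.Basic Subgroup
open scoped commutatorElement

universe u

section abelianQuotient

variable {K : Type u} [Group K] [Fintype K] (L : Subgroup K) [L.Normal] [Fintype L]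

/-- If multiplication by the non-trivial linear characters of `K / L` moves `ϑ`, a homogeneous
restriction to `L` is irreducible. -/
theorem multiplicity_eq_one (hab : _root_.commutator K ≤ L) (θ : Cfsg.IrrCharacter K)
    (φ : Cfsg.IrrCharacter L) (e : ℕ) (hres : (fun l : L => (θ : K → ℂ) l) = (e : ℂ) • (φ : L → ℂ))
    (hinv : ∀ k, conjC L k φ = (φ : L → ℂ))
    (hgen : closure ((L : Set K) ∪ {k | (θ : K → ℂ) k ≠ 0}) = ⊤) : e ≤ 1 := by
  classical
  let cg : CommGroup (K ⧸ L) :=
    { (inferInstance : Group (K ⧸ L)) with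
      mul_comm := fun x y => by
        induction x using QuotientGroup.induction_on with
        | _ a => induction y using QuotientGroup.induction_on with
          | _ b =>
            rw [← QuotientGroup.mk_mul, ← QuotientGroup.mk_mul, QuotientGroup.eq]
            apply hab
            rw [show (a * b)⁻¹ * (b * a) = ⁅b⁻¹, a⁻¹⁆ by rw [commutatorElement_def]; group,
              _root_.commutator_def]
            exact commutator_mem_commutator (mem_top _) (mem_top _) }
  have hcard : Nat.card (K ⧸ L →* ℂˣ) = L.index := by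
    rw [CommGroup.card_monoidHom_of_hasEnoughRootsOfUnity (K ⧸ L) ℂ, index_eq_card]
  let F : (K ⧸ L →* ℂˣ) → Cfsg.IrrCharacter K := fun l =>
    ⟨(Linear.linChar (l.comp (QuotientGroup.mk' L)) : K → ℂ) * (θ : K → ℂ),
      Linear.isIrrCharacter_linear_mul (isCharacter_irr _) (by simp [Linear.linChar_apply]) θ.2⟩
  have hFinj : Function.Injective F := by
    intro l l' h
    have heq : ∀ k : K, (θ : K → ℂ) k ≠ 0 →
        l.comp (QuotientGroup.mk' L) k = l'.comp (QuotientGroup.mk' L) k := by
      intro k hk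
      have h1 := congrFun (congrArg Subtype.val h) k
      simp only [F, Pi.mul_apply, Linear.linChar_apply] at h1
      exact Units.ext (mul_right_cancel₀ hk h1)
    have hle : closure ((L : Set K) ∪ {k | (θ : K → ℂ) k ≠ 0}) ≤
        (l.comp (QuotientGroup.mk' L)).eqLocus (l'.comp (QuotientGroup.mk' L)) := by
      rw [closure_le]
      rintro k (hk | hk)
      · show l (k : K ⧸ L) = l' (k : K ⧸ L)
        rw [(QuotientGroup.eq_one_iff k).mpr hk, map_one, map_one]
      · exact heq k hk
    rw [hgen, top_le_iff] at hle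
    refine MonoidHom.ext fun q => ?_
    induction q using QuotientGroup.induction_on with
    | _ k =>
      have hk : k ∈ (⊤ : Subgroup K) := mem_top k
      rw [← hle] at hk
      exact hk
  have hFe : ∀ l, Cfsg.classInner (Cfsg.indFun L (φ : L → ℂ)) (F l) = (e : ℂ) := by
    intro l
    rw [frobenius_reciprocity L _ (isClassFunction_irr (F l)), ← classInner_conj_symm]
    have : (fun x : L => (F l : K → ℂ) x) = fun x : L => (θ : K → ℂ) x := by
      funext x
      simp [F, Linear.linChar_apply, (QuotientGroup.eq_one_iff (x : K)).mpr x.2]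
    rw [this, hres, classInner_smul_left, classInner_self_irr, mul_one, map_natCast]
  have := Fintype.ofFinite (Cfsg.IrrCharacter K)
  have := Fintype.ofFinite (K ⧸ L →* ℂˣ)
  have hind : Cfsg.IsCharacter K (Cfsg.indFun L (φ : L → ℂ)) :=
    Lib.Induced.Character.isCharacter_indFun L (isCharacter_irr φ)
  choose c hc using fun β : Cfsg.IrrCharacter K => exists_classInner_nat hind (isCharacter_irr β)
  have hsq : ∑ β : Cfsg.IrrCharacter K, c β * c β = L.index := by
    have h := Gallagher.classInner_indFun_self L φ hinv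
    have h2 : Cfsg.classInner (Cfsg.indFun L (φ : L → ℂ)) (Cfsg.indFun L (φ : L → ℂ))
        = ∑ β : Cfsg.IrrCharacter K, ((c β * c β : ℕ) : ℂ) := by
      have hdec := Complete.classFunction_eq_sum (isClassFunction_indFun L (φ : L → ℂ))
      conv_lhs => rw [hdec, classInner_sum_left]
      refine Finset.sum_congr rfl fun β _ => ?_
      rw [classInner_smul_left, ← hdec, Nat.cast_mul, hc]
      congr 1
      rw [← classInner_conj_symm, hc, map_natCast]
    rw [h2] at h
    exact_mod_cast h
  have hle : L.index * (e * e) ≤ L.index := by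
    calc L.index * (e * e) = ∑ l : K ⧸ L →* ℂˣ, c (F l) * c (F l) := by
          have : ∀ l, c (F l) = e := fun l => by exact_mod_cast (hc (F l)).symm.trans (hFe l)
          simp only [this, Finset.sum_const, Finset.card_univ, smul_eq_mul]
          rw [← Nat.card_eq_fintype_card, hcard]
      _ = ∑ β ∈ Finset.univ.image F, c β * c β := by
          rw [Finset.sum_image (fun x _ y _ h => hFinj h)]
      _ ≤ L.index := hsq ▸ Finset.sum_le_univ_sum_of_nonneg fun β => Nat.zero_le _
  have hpos : 0 < L.index := Nat.pos_of_ne_zero index_ne_zero_of_finite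
  have : e * e ≤ 1 := Nat.le_of_mul_le_mul_left (hle.trans_eq (mul_one _).symm) hpos
  nlinarith

omit [L.Normal] in
/-- A character vanishing outside `L` with homogeneous restriction is fully ramified. -/
theorem multiplicity_sq_eq_index (θ : Cfsg.IrrCharacter K) (φ : Cfsg.IrrCharacter L) (e : ℕ)
    (hres : (fun l : L => (θ : K → ℂ) l) = (e : ℂ) • (φ : L → ℂ))
    (hvan : ∀ k : K, k ∉ L → (θ : K → ℂ) k = 0) : e ^ 2 = L.index := by
  classical
  have h := classInner_self_irr θ
  have h2 : ∑ k : K, (θ : K → ℂ) k * conj ((θ : K → ℂ) k)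
      = ∑ l : L, (θ : K → ℂ) l * conj ((θ : K → ℂ) l) := by
    refine (Finset.sum_of_injOn (fun l : L => (l : K)) Subtype.val_injective.injOn
      (fun _ _ => Finset.mem_univ _) (fun k _ hk => ?_) fun _ _ => rfl).symm
    rw [hvan k fun h => hk ⟨⟨k, h⟩, Finset.mem_univ _, rfl⟩, zero_mul]
  have h3 : ∑ l : L, (θ : K → ℂ) l * conj ((θ : K → ℂ) l) = (Nat.card L : ℂ) * ((e ^ 2 : ℕ) : ℂ) := by
    have h4 : Cfsg.classInner (fun l : L => (θ : K → ℂ) l) (fun l : L => (θ : K → ℂ) l)
        = ((e ^ 2 : ℕ) : ℂ) := by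
      rw [hres, classInner_smul_left, classInner_smul_right, classInner_self_irr, map_natCast]
      push_cast
      ring
    rw [Cfsg.classInner, inv_mul_eq_iff_eq_mul₀ (subgroup_card_ne_zero L)] at h4
    exact h4
  rw [Cfsg.classInner, h2, h3, inv_mul_eq_one₀ natCard_ne_zero] at h
  have h5 : Nat.card L * L.index = Nat.card L * e ^ 2 := by
    rw [card_mul_index]
    exact_mod_cast h
  exact (Nat.eq_of_mul_eq_mul_left Nat.card_pos h5).symm

/-- The three cases, relative to a set of automorphisms under which `L` is a chief factor. -/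
theorem going_down_aux (hab : _root_.commutator K ≤ L) (θ : Cfsg.IrrCharacter K)
    {A : Set (K ≃* K)} (hAL : ∀ a ∈ A, ∀ x, a x ∈ L ↔ x ∈ L)
    (hAθ : ∀ a ∈ A, ∀ x, (θ : K → ℂ) (a x) = (θ : K → ℂ) x)
    (hchief : ∀ M : Subgroup K, L ≤ M → (∀ a ∈ A, ∀ x ∈ M, a x ∈ M) → M = L ∨ M = ⊤) :
    Cfsg.IsIrrCharacter L (fun l : L => (θ : K → ℂ) l) ∨
    (∃ (φ : Cfsg.IrrCharacter L) (e : ℕ),
      (fun l : L => (θ : K → ℂ) l) = (e : ℂ) • (φ : L → ℂ) ∧ e ^ 2 = L.index) ∨
    (∃ F : Finset (L → ℂ), (∀ φ ∈ F, Cfsg.IsIrrCharacter L φ) ∧ F.card = L.index ∧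
      (fun l : L => (θ : K → ℂ) l) = ∑ φ ∈ F, φ) := by
  classical
  obtain ⟨φ, hφ⟩ := exists_constituent_restrict L θ.2
  set T := inertia L (φ : L → ℂ) with hTdef
  have hLT : L ≤ T := le_inertia L (isClassFunction_irr φ)
  have hTconj : ∀ k x : K, x ∈ T → k * x * k⁻¹ ∈ T := by
    intro k x hx
    have hcomm : k * x * k⁻¹ * x⁻¹ ∈ L := hab (by
      rw [_root_.commutator_def, ← commutatorElement_def]
      exact commutator_mem_commutator (mem_top _) (mem_top _))
    have h := T.mul_mem (hLT hcomm) hx
    rwa [show k * x * k⁻¹ * x⁻¹ * x = k * x * k⁻¹ by group] at h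
  have hTA : ∀ a ∈ A, ∀ x ∈ T, a x ∈ T := by
    intro a ha x hx
    let aL : L →* L :=
      { toFun := fun l => ⟨a l, (hAL a ha l).mpr l.2⟩
        map_one' := Subtype.ext (map_one a)
        map_mul' := fun p q => Subtype.ext (map_mul a _ _) }
    have haLs : Function.Surjective aL := fun l =>
      ⟨⟨a.symm l, (hAL a ha _).mp (by simp)⟩, Subtype.ext (a.apply_symm_apply l)⟩
    have haLi : Function.Injective aL := fun p q h =>
      Subtype.ext (a.injective (congrArg Subtype.val h))
    let φ' : Cfsg.IrrCharacter L := ⟨(φ : L → ℂ) ∘ aL, isIrrCharacter_comp aL haLs φ.2⟩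
    have hcon : Cfsg.classInner (fun l : L => (θ : K → ℂ) l) φ' ≠ 0 := by
      have h1 : Cfsg.classInner (fun l : L => (θ : K → ℂ) l) φ'
          = Cfsg.classInner (fun l : L => (θ : K → ℂ) l) φ := by
        simp only [Cfsg.classInner]
        congr 1
        refine Fintype.sum_bijective aL ⟨haLi, haLs⟩ _ _ fun l => ?_
        show (θ : K → ℂ) l * conj ((φ : L → ℂ) (aL l)) = (θ : K → ℂ) (a l) * _
        rw [hAθ a ha]
      rw [h1]
      exact hφ
    obtain ⟨k, hk⟩ := exists_conj_of_constituents L θ.2 hφ hcon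
    have hx' : conjC L x (conjC L k φ) = conjC L k φ := by
      rw [← conjC_mul, conjC_eq_conjC_iff, ← hTdef]
      exact hTconj k x hx
    rw [hk] at hx'
    rw [hTdef, mem_inertia]
    funext l
    obtain ⟨m, rfl⟩ := haLs l
    have h2 := congrFun hx' m
    simp only [conjC_apply, φ', Function.comp_apply] at h2 ⊢
    rw [← h2]
    apply congrArg (φ : L → ℂ)
    apply Subtype.ext
    show a x * a (m : K) * (a x)⁻¹ = a (x * (m : K) * x⁻¹)
    simp [map_mul]
  obtain ⟨e, he⟩ := exists_classInner_nat
    (isCharacter_comp L.subtype (isCharacter_irr θ)) (isCharacter_irr φ)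
  have he' : Cfsg.classInner (fun l : L => (θ : K → ℂ) l) φ = (e : ℂ) := he
  rcases hchief T hLT hTA with hT | hT
  · -- `T = L`
    right; right
    obtain ⟨ψ, hψ, hind, hψN, -⟩ := exists_correspondent L θ.2 φ hφ L hT.symm le_rfl
    rw [he'] at hψN
    have he1 : e = 1 := by
      have hψe : ψ = (e : ℂ) • (φ : L → ℂ) := by
        funext l
        exact congrFun hψN l
      have h1 : Cfsg.classInner ψ ψ = 1 := classInner_self_irr ⟨ψ, hψ⟩
      rw [hψe, classInner_smul_left, classInner_smul_right, classInner_self_irr, map_natCast,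
        mul_one] at h1
      have h2 : e * e = 1 := by exact_mod_cast h1
      exact (mul_eq_one.mp h2).1
    have hcl := clifford L θ.2 φ hφ
    rw [he', he1, Nat.cast_one, ← hTdef, hT] at hcl
    refine ⟨Finset.univ.image fun x => conjC L x (φ : L → ℂ), ?_, ?_, ?_⟩
    · intro ψ hψ
      obtain ⟨x, -, rfl⟩ := Finset.mem_image.mp hψ
      exact isIrrCharacter_conjC L x φ.2
    all_goals
      have hfib : ∀ ψ ∈ Finset.univ.image (fun x => conjC L x (φ : L → ℂ)),
          (Finset.univ.filter fun x => conjC L x (φ : L → ℂ) = ψ).card = Nat.card L := by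
        intro ψ hψ
        obtain ⟨k, -, rfl⟩ := Finset.mem_image.mp hψ
        rw [Nat.card_eq_fintype_card, ← Finset.card_univ (α := L)]
        refine Finset.card_bij' (fun x hx => ⟨x * k⁻¹, ?_⟩) (fun l _ => (l : K) * k)
          (fun _ _ => Finset.mem_univ _) (fun l _ => ?_) (fun x _ => by simp) (fun l _ => by simp)
        · rw [← hT, hTdef, ← conjC_eq_conjC_iff]
          exact (Finset.mem_filter.mp hx).2
        · rw [Finset.mem_filter, conjC_eq_conjC_iff, ← hTdef, hT]
          simp
    · have h1 := Finset.card_eq_sum_card_image (fun x => conjC L x (φ : L → ℂ)) Finset.univ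
      rw [Finset.sum_congr rfl hfib, Finset.sum_const, smul_eq_mul, Finset.card_univ,
        ← Nat.card_eq_fintype_card, ← L.index_mul_card] at h1
      exact (Nat.eq_of_mul_eq_mul_right Nat.card_pos h1).symm
    · rw [hcl, ← Finset.sum_fiberwise_of_maps_to
        (g := fun x => conjC L x (φ : L → ℂ)) (t := Finset.univ.image fun x => conjC L x (φ : L → ℂ))
        (fun x _ => Finset.mem_image_of_mem _ (Finset.mem_univ x)), Finset.smul_sum]
      refine Finset.sum_congr rfl fun ψ hψ => ?_
      rw [Finset.sum_congr rfl (g := fun _ => ψ) fun x hx => (Finset.mem_filter.mp hx).2,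
        Finset.sum_const, hfib ψ hψ, ← Nat.cast_smul_eq_nsmul ℂ, smul_smul, one_div,
        inv_mul_cancel₀ (subgroup_card_ne_zero L), one_smul]
  · -- `T = ⊤`
    have hinv : ∀ k, conjC L k φ = (φ : L → ℂ) := fun k =>
      (mem_inertia L).mp (hTdef ▸ hT ▸ mem_top k : k ∈ inertia L (φ : L → ℂ))
    have hres := restrict_eq_smul L θ.2 φ hφ hinv
    rw [he'] at hres
    rcases hchief (closure ((L : Set K) ∪ {k | (θ : K → ℂ) k ≠ 0}))
        (fun x hx => subset_closure (Or.inl hx)) (fun a ha x hx => by
          induction hx using closure_induction with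
          | mem y hy =>
            refine subset_closure ?_
            rcases hy with hy | hy
            · exact Or.inl ((hAL a ha y).mpr hy)
            · right
              rw [Set.mem_ofPred_eq] at hy ⊢
              rwa [hAθ a ha]
          | one => rw [map_one]; exact one_mem _
          | mul y z _ _ hy hz => rw [map_mul]; exact mul_mem hy hz
          | inv y _ hy => rw [map_inv]; exact inv_mem hy) with hU | hU
    · right; left
      refine ⟨φ, e, hres, multiplicity_sq_eq_index L θ φ e hres fun k hk => ?_⟩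
      by_contra h
      exact hk (hU ▸ subset_closure (Or.inr h))
    · left
      have he1 := multiplicity_eq_one L hab θ φ e hres hinv hU
      have he0 : e ≠ 0 := fun h => hφ (by rw [he', h, Nat.cast_zero])
      rw [hres, show e = 1 by omega, Nat.cast_one, one_smul]
      exact φ.2

end abelianQuotient

variable {G : Type u} [Group G] [Fintype G]

/-- Going down. -/
theorem going_down (K L : Subgroup G) [hK : K.Normal] [hL : L.Normal] (hLK : L ≤ K)
    (hchief : ∀ M : Subgroup G, M.Normal → L ≤ M → M ≤ K → M = L ∨ M = K) (hab : ⁅K, K⁆ ≤ L)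
    (θ : Cfsg.IrrCharacter K) (hinv : ∀ g, conjC K g θ = (θ : K → ℂ)) :
    Cfsg.IsIrrCharacter L (fun x : L => (θ : K → ℂ) ⟨(x : G), hLK x.2⟩) ∨
    (∃ (φ : L → ℂ) (e : ℕ), Cfsg.IsIrrCharacter L φ ∧
      (fun x : L => (θ : K → ℂ) ⟨(x : G), hLK x.2⟩) = (e : ℂ) • φ ∧ e ^ 2 = L.relIndex K) ∨
    (∃ F : Finset (L → ℂ), (∀ φ ∈ F, Cfsg.IsIrrCharacter L φ) ∧ F.card = L.relIndex K ∧
      (fun x : L => (θ : K → ℂ) ⟨(x : G), hLK x.2⟩) = ∑ φ ∈ F, φ) := by
  classical
  let L' : Subgroup K := L.subgroupOf K
  have hL'n : L'.Normal := hL.subgroupOf K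
  have := Fintype.ofFinite L'
  let eL : L ≃* L' := (Subgroup.subgroupOfEquivOfLe hLK).symm
  have hab' : _root_.commutator K ≤ L' := by
    intro x hx
    rw [mem_subgroupOf]
    refine hab ?_
    rw [_root_.commutator_def] at hx
    have := Subgroup.mem_map_of_mem K.subtype hx
    rwa [map_commutator, ← MonoidHom.range_eq_map, range_subtype] at this
  have main := going_down_aux L' hab' θ (A := Set.range fun g : G => MulAut.conjNormal g)
    (by
      rintro _ ⟨g, rfl⟩ x
      constructor
      · intro h
        have := hL.conj_mem _ (mem_subgroupOf.mp h) g⁻¹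
        rw [MulAut.conjNormal_apply] at this
        rw [mem_subgroupOf]
        simpa [mul_assoc] using this
      · intro h
        rw [mem_subgroupOf, MulAut.conjNormal_apply]
        exact hL.conj_mem _ (mem_subgroupOf.mp h) g)
    (by rintro _ ⟨g, rfl⟩ x; exact congrFun (hinv g) x)
    (by
      intro M hLM hM
      have hMn : (M.map K.subtype).Normal := ⟨by
        rintro _ ⟨x, hx, rfl⟩ g
        exact ⟨MulAut.conjNormal g x, hM _ ⟨g, rfl⟩ x hx, MulAut.conjNormal_apply g x⟩⟩
      rcases hchief _ hMn (fun x hx => ⟨⟨x, hLK hx⟩, hLM (mem_subgroupOf.mpr hx), rfl⟩)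
          (map_subtype_le M) with h | h
      · left
        exact Subgroup.map_injective (subtype_injective K) (by
          rw [h, subgroupOf_map_subtype, inf_eq_left.mpr hLK])
      · right
        exact Subgroup.map_injective (subtype_injective K) (by
          rw [h, ← MonoidHom.range_eq_map, range_subtype]))
  rcases main with h | ⟨φ, e, h, he⟩ | ⟨F, hF, hFc, h⟩
  · left
    exact isIrrCharacter_comp eL.toMonoidHom eL.surjective h
  · right; left
    refine ⟨(φ : L' → ℂ) ∘ eL.toMonoidHom, e, isIrrCharacter_comp eL.toMonoidHom eL.surjective φ.2,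
      ?_, he⟩
    funext x
    exact congrFun h (eL x)
  · right; right
    have hcinj : Function.Injective (fun φ : L' → ℂ => φ ∘ eL.toMonoidHom) := fun a b h =>
      funext fun y => by obtain ⟨x, rfl⟩ := eL.surjective y; exact congrFun h x
    refine ⟨F.image fun φ => φ ∘ eL.toMonoidHom, ?_, ?_, ?_⟩
    · intro φ hφ
      obtain ⟨ψ, hψ, rfl⟩ := Finset.mem_image.mp hφ
      exact isIrrCharacter_comp eL.toMonoidHom eL.surjective (hF ψ hψ)
    · rw [Finset.card_image_of_injective _ hcinj, hFc]
      rfl
    · rw [Finset.sum_image fun a _ b _ hab => hcinj hab]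
      funext x
      simp only [Finset.sum_apply, Function.comp_apply]
      have := congrFun h (eL x)
      rw [Finset.sum_apply] at this
      exact this

end Cfsg.Agent.Lib.Clifford.GoingDown
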