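import Mathlib
import Cfsg.Prelude.Def_OddOrderChar
import Cfsg.Agent.Lib.BlocksChars5.Vanishing
import Cfsg.Agent.Lib.Characters.Complete
import Cfsg.Agent.Lib.Isometry.Criterion

/-!
# Characters of a group with a self-centralizing normal kernel
-/

namespace Cfsg.Agent.Lib.Clifford.KernelChars

open scoped ComplexConjugate
open Cfsg.Agent.Lib.Characters.Basic
open Cfsg.Agent.Lib.Induced.Basic (classInner_add_left classInner_sub_left classInner_sub_right
  classInner_smul_left classInner_smul_right classInner_conj_symm natCard_ne_zero)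

universe u

variable {N : Type u} [Group N] [Fintype N] (K : Subgroup N)

/-- `χ` is not constant equal to its degree on `K`. -/
def Rel (χ : N → ℂ) : Prop := ∃ k ∈ K, χ k ≠ χ 1

variable [K.Normal]

theorem sum_kernel (χ : Cfsg.IrrCharacter N) (h : Rel K (χ : N → ℂ)) [Fintype K] :
    ∑ n : K, (χ : N → ℂ) n = 0 := by
  simpa using Cfsg.Agent.Lib.BlocksChars5.Vanishing.sum_coset_eq_zero χ K h 1

/-- A class function is constant on the cosets of `K` outside `K`. -/
theorem coset_const (hC : ∀ k ∈ K, k ≠ 1 → ∀ x, Commute x k → x ∈ K) {f : N → ℂ}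
    (hf : Cfsg.IsClassFunction N f) {x : N} (hx : x ∉ K) (n : N) (hn : n ∈ K) :
    f (n * x) = f x := by
  let φ : K → K := fun k => ⟨(k : N) * (x * (k : N)⁻¹ * x⁻¹),
    K.mul_mem k.2 (Subgroup.Normal.conj_mem inferInstance _ (K.inv_mem k.2) x)⟩
  have hinj : Function.Injective φ := by
    intro a b hab
    have h : (a : N) * (x * (a : N)⁻¹ * x⁻¹) = (b : N) * (x * (b : N)⁻¹ * x⁻¹) :=
      congrArg Subtype.val hab
    by_contra hne
    apply hx
    refine hC ((b : N)⁻¹ * a) (K.mul_mem (K.inv_mem b.2) a.2)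
      (fun e => hne (Subtype.ext (inv_mul_eq_one.mp e).symm)) x ?_
    show x * ((b : N)⁻¹ * a) = (b : N)⁻¹ * a * x
    calc x * ((b : N)⁻¹ * a)
        = (b : N)⁻¹ * ((b : N) * (x * (b : N)⁻¹ * x⁻¹)) * x * a := by group
      _ = (b : N)⁻¹ * a * x := by rw [← h]; group
  obtain ⟨k, hk⟩ := (Finite.injective_iff_surjective.mp hinj) ⟨n, hn⟩
  have h : (k : N) * (x * (k : N)⁻¹ * x⁻¹) = n := congrArg Subtype.val hk
  rw [← h, show (k : N) * (x * (k : N)⁻¹ * x⁻¹) * x = k * x * (k : N)⁻¹ by group]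
  exact hf x k

/-- A relevant character vanishes off the kernel. -/
theorem vanish (hC : ∀ k ∈ K, k ≠ 1 → ∀ x, Commute x k → x ∈ K) (χ : Cfsg.IrrCharacter N)
    (h : Rel K (χ : N → ℂ)) {x : N} (hx : x ∉ K) : (χ : N → ℂ) x = 0 := by
  classical
  have h0 := Cfsg.Agent.Lib.BlocksChars5.Vanishing.sum_coset_eq_zero χ K h x
  rw [Finset.sum_congr rfl fun (n : K) _ =>
    coset_const K hC (isClassFunction_irr χ) hx n n.2, Finset.sum_const, nsmul_eq_mul,
    mul_eq_zero] at h0
  refine h0.resolve_left ?_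
  simp

open scoped Classical in
/-- The indicator function of `K`. -/
noncomputable def ind (K : Subgroup N) : N → ℂ := fun x => if x ∈ K then 1 else 0

theorem ind_classFun : Cfsg.IsClassFunction N (ind K) := by
  classical
  intro x c
  simp only [ind]
  refine if_congr ⟨fun h => ?_, fun h => Subgroup.Normal.conj_mem inferInstance x h c⟩ rfl rfl
  simpa [mul_assoc] using Subgroup.Normal.conj_mem (inferInstance : K.Normal) _ h c⁻¹

omit [K.Normal] in
theorem sum_ind_mul [DecidablePred (· ∈ K)] (f : N → ℂ) :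
    ∑ x : N, ind K x * f x = ∑ n : K, f n := by
  classical
  simp only [ind, ite_mul, one_mul, zero_mul]
  rw [← Finset.sum_filter]
  exact Finset.sum_subtype (Finset.univ.filter (· ∈ K)) (by simp) f

theorem ind_inner_rel (χ : Cfsg.IrrCharacter N) (h : Rel K (χ : N → ℂ)) :
    Cfsg.classInner (ind K) (χ : N → ℂ) = 0 := by
  classical
  rw [Cfsg.classInner, sum_ind_mul K (fun x => conj ((χ : N → ℂ) x)), ← map_sum, sum_kernel K χ h,
    map_zero, mul_zero]

theorem ind_inner_not_rel (χ : Cfsg.IrrCharacter N) (h : ¬ Rel K (χ : N → ℂ)) :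
    Cfsg.classInner (ind K) (χ : N → ℂ) = (χ : N → ℂ) 1 * (K.index : ℂ)⁻¹ := by
  classical
  rw [Cfsg.classInner, sum_ind_mul K (fun x => conj ((χ : N → ℂ) x))]
  have he : ∀ n : K, conj ((χ : N → ℂ) n) = (χ : N → ℂ) 1 := fun n => by
    have : (χ : N → ℂ) n = (χ : N → ℂ) 1 := by
      by_contra hne
      exact h ⟨n, n.2, hne⟩
    rw [this, conj_apply_one (isCharacter_irr χ)]
  rw [Finset.sum_congr rfl fun n _ => he n, Finset.sum_const, nsmul_eq_mul, Finset.card_univ,
    ← Nat.card_eq_fintype_card, ← K.card_mul_index, Nat.cast_mul]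
  have hK : (Nat.card K : ℂ) ≠ 0 := natCard_ne_zero
  field_simp

theorem index_ne_zero : (K.index : ℂ) ≠ 0 := Nat.cast_ne_zero.mpr Subgroup.index_ne_zero_of_finite

open scoped Classical in
/-- The characters trivial on `K` sum to the regular character of the quotient. -/
theorem sum_not_rel [Fintype (Cfsg.IrrCharacter N)] {x : N} (hx : x ∈ K) :
    ∑ χ ∈ Finset.univ.filter (fun χ : Cfsg.IrrCharacter N => ¬ Rel K (χ : N → ℂ)),
      (χ : N → ℂ) 1 * (χ : N → ℂ) x = K.index := by
  have h := congrFun (Cfsg.Agent.Lib.Characters.Complete.classFunction_eq_sum (ind_classFun K)) x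
  rw [show ind K x = 1 from if_pos hx] at h
  simp only [Finset.sum_apply, Pi.smul_apply, smul_eq_mul] at h
  rw [← Finset.sum_filter_add_sum_filter_not Finset.univ
    (fun χ : Cfsg.IrrCharacter N => Rel K (χ : N → ℂ)), Finset.sum_eq_zero (fun χ hχ => by
      rw [ind_inner_rel K χ (Finset.mem_filter.mp hχ).2, zero_mul]), zero_add,
    Finset.sum_congr rfl (fun χ hχ => by
      rw [ind_inner_not_rel K χ (Finset.mem_filter.mp hχ).2, mul_right_comm]), ← Finset.sum_mul] at h
  exact (mul_inv_eq_one₀ (index_ne_zero K)).mp h.symm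

open scoped Classical in
theorem sum_not_rel_sq [Fintype (Cfsg.IrrCharacter N)] :
    ∑ χ ∈ Finset.univ.filter (fun χ : Cfsg.IrrCharacter N => ¬ Rel K (χ : N → ℂ)),
      (χ : N → ℂ) 1 ^ 2 = K.index := by
  simpa [pow_two] using sum_not_rel K K.one_mem

open scoped Classical in
theorem sum_rel_sq [Fintype (Cfsg.IrrCharacter N)] :
    ∑ χ ∈ Finset.univ.filter (fun χ : Cfsg.IrrCharacter N => Rel K (χ : N → ℂ)),
      (χ : N → ℂ) 1 ^ 2 = (K.index : ℂ) * ((Nat.card K : ℂ) - 1) := by
  have h := Cfsg.Agent.Lib.Characters.Complete.sum_degree_mul_apply (G := N) (1 : N)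
  rw [if_pos rfl] at h
  have h1 := sum_not_rel_sq K
  have h2 := Finset.sum_filter_add_sum_filter_not Finset.univ
    (fun χ : Cfsg.IrrCharacter N => Rel K (χ : N → ℂ)) (fun χ => (χ : N → ℂ) 1 ^ 2)
  simp only [pow_two] at h1 h2 ⊢
  rw [h1, h, ← K.card_mul_index, Nat.cast_mul] at h2
  linear_combination h2

open scoped Classical in
/-- The second orthogonality relation restricted to the relevant characters. -/
theorem sum_rel_norm [Fintype (Cfsg.IrrCharacter N)] {k : N} (hk : k ∈ K) :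
    ∑ χ ∈ Finset.univ.filter (fun χ : Cfsg.IrrCharacter N => Rel K (χ : N → ℂ)),
      (χ : N → ℂ) k * conj ((χ : N → ℂ) k) =
        (Nat.card (Subgroup.centralizer ({k} : Set N)) : ℂ) - K.index := by
  have h := Cfsg.Agent.Lib.Characters.Complete.sum_irr_mul_conj k k
  rw [if_pos (IsConj.refl k), ← Finset.sum_filter_add_sum_filter_not Finset.univ
    (fun χ : Cfsg.IrrCharacter N => Rel K (χ : N → ℂ))] at h
  rw [← h, eq_sub_iff_add_eq, ← sum_not_rel_sq K]
  congr 1
  refine Finset.sum_congr rfl fun χ hχ => ?_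
  have : (χ : N → ℂ) k = (χ : N → ℂ) 1 := by
    by_contra hne
    exact (Finset.mem_filter.mp hχ).2 ⟨k, hk, hne⟩
  rw [this, conj_apply_one (isCharacter_irr χ), pow_two]

/-- A class function orthogonal to the degree zero combinations of two relevant characters is
constant on the non-identity elements of `K`. -/
theorem eq_const {D : N → ℂ} (hD : Cfsg.IsClassFunction N D)
    (h : ∀ χ ξ : Cfsg.IrrCharacter N, Rel K (χ : N → ℂ) → Rel K (ξ : N → ℂ) →
      Cfsg.classInner ((ξ : N → ℂ) 1 • (χ : N → ℂ) - (χ : N → ℂ) 1 • (ξ : N → ℂ)) D = 0) :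
    ∃ b : ℂ, ∀ k ∈ K, k ≠ 1 → D k = b := by
  classical
  have := Fintype.ofFinite (Cfsg.IrrCharacter N)
  set P : Finset N := Finset.univ.filter (fun x => x ∈ K ∧ x ≠ 1) with hP
  set μ : ℂ := (∑ x ∈ P, D x) / (P.card : ℂ) with hμ
  refine ⟨μ, ?_⟩
  set f : N → ℂ := fun x => if x ∈ K ∧ x ≠ 1 then D x - μ else 0 with hfdef
  suffices hf0 : f = 0 by
    intro k hk hk1
    have := congrFun hf0 k
    simpa [hfdef, hk, hk1, sub_eq_zero] using this
  have hfc : Cfsg.IsClassFunction N f := by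
    intro x c
    have hiff : (c * x * c⁻¹ ∈ K ∧ c * x * c⁻¹ ≠ 1) ↔ (x ∈ K ∧ x ≠ 1) := by
      refine and_congr ⟨fun hc => ?_, fun hx => Subgroup.Normal.conj_mem inferInstance x hx c⟩
        (not_congr ⟨fun e => ?_, fun e => by simp [e]⟩)
      · simpa [mul_assoc] using Subgroup.Normal.conj_mem (inferInstance : K.Normal) _ hc c⁻¹
      · simpa [mul_assoc] using congrArg (fun y => c⁻¹ * y * c) e
    simp only [hfdef]
    rw [hD x c]
    exact if_congr hiff rfl rfl
  have hfsum : ∑ x : N, f x = 0 := by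
    simp only [hfdef]
    rw [← Finset.sum_filter, ← hP, Finset.sum_sub_distrib, Finset.sum_const, nsmul_eq_mul, hμ]
    rcases Nat.eq_zero_or_pos P.card with h0 | h0
    · rw [Finset.card_eq_zero.mp h0]; simp
    · rw [mul_div_cancel₀ _ (Nat.cast_ne_zero.mpr h0.ne'), sub_self]
  have hnr : ∀ χ : Cfsg.IrrCharacter N, ¬ Rel K (χ : N → ℂ) →
      Cfsg.classInner f (χ : N → ℂ) = 0 := by
    intro χ hχ
    rw [Cfsg.classInner]
    have : ∀ x, f x * conj ((χ : N → ℂ) x) = f x * (χ : N → ℂ) 1 := by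
      intro x
      by_cases hx : x ∈ K ∧ x ≠ 1
      · rw [show (χ : N → ℂ) x = (χ : N → ℂ) 1 by
          by_contra hne; exact hχ ⟨x, hx.1, hne⟩, conj_apply_one (isCharacter_irr χ)]
      · simp [hfdef, hx]
    rw [Finset.sum_congr rfl fun x _ => this x, ← Finset.sum_mul, hfsum, zero_mul, mul_zero]
  have hexp := Cfsg.Agent.Lib.Characters.Complete.classFunction_eq_sum hfc
  have hone : ∑ χ : Cfsg.IrrCharacter N, Cfsg.classInner f (χ : N → ℂ) * (χ : N → ℂ) 1 = 0 := by
    have := congrFun hexp 1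
    simp only [Finset.sum_apply, Pi.smul_apply, smul_eq_mul] at this
    rw [← this]; simp [hfdef]
  have horth : Cfsg.classInner f D = 0 := by
    rw [hexp, classInner_sum_left]
    simp only [classInner_smul_left]
    by_cases hex : ∃ ξ : Cfsg.IrrCharacter N, Rel K (ξ : N → ℂ)
    · obtain ⟨ξ, hξ⟩ := hex
      have hξ1 : (ξ : N → ℂ) 1 ≠ 0 := apply_one_ne_zero ξ
      have hprop : ∀ χ : Cfsg.IrrCharacter N, Cfsg.classInner f (χ : N → ℂ) *
          Cfsg.classInner (χ : N → ℂ) D = Cfsg.classInner f (χ : N → ℂ) * (χ : N → ℂ) 1 *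
            (Cfsg.classInner (ξ : N → ℂ) D / (ξ : N → ℂ) 1) := by
        intro χ
        by_cases hχ : Rel K (χ : N → ℂ)
        · have := h χ ξ hχ hξ
          rw [classInner_sub_left, classInner_smul_left, classInner_smul_left] at this
          field_simp
          linear_combination (Cfsg.classInner f (χ : N → ℂ)) * this
        · rw [hnr χ hχ, zero_mul, zero_mul, zero_mul]
      rw [Finset.sum_congr rfl fun χ _ => hprop χ, ← Finset.sum_mul, hone, zero_mul]
    · push Not at hex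
      exact Finset.sum_eq_zero fun χ _ => by rw [hnr χ (hex χ), zero_mul]
  refine Cfsg.Agent.Lib.Isometry.Inner.eq_zero_of_classInner_self ?_
  have hmul : ∀ x, f x * conj (f x) = f x * conj (D x) - f x * conj μ := by
    intro x
    by_cases hx : x ∈ K ∧ x ≠ 1 <;> simp [hfdef, hx, mul_sub]
  rw [Cfsg.classInner, Finset.sum_congr rfl fun x _ => hmul x, Finset.sum_sub_distrib, mul_sub,
    ← Finset.sum_mul, hfsum, zero_mul, mul_zero, sub_zero]
  exact horth

/-- With two relevant characters, none of them is constant on `K` minus the identity. -/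
theorem not_const (hC : ∀ k ∈ K, k ≠ 1 → ∀ x, Commute x k → x ∈ K) (χ ξ : Cfsg.IrrCharacter N)
    (hχ : Rel K (χ : N → ℂ)) (hξ : Rel K (ξ : N → ℂ)) (hne : χ ≠ ξ) (c : ℂ) :
    ¬ ∀ k ∈ K, k ≠ 1 → (χ : N → ℂ) k = c := by
  classical
  intro hc
  have hexp : (χ : N → ℂ) =
      c • ind K + ((χ : N → ℂ) 1 - c) • (fun x => if x = 1 then (1 : ℂ) else 0) := by
    funext x
    by_cases hx : x ∈ K
    · by_cases h1 : x = 1
      · subst h1; simp [ind, hx]
      · simp [ind, hx, h1, hc x hx h1]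
    · have h1 : x ≠ 1 := fun e => hx (e ▸ K.one_mem)
      simp [ind, hx, h1, vanish K hC χ hχ hx]
  have h0 : Cfsg.classInner (χ : N → ℂ) (ξ : N → ℂ) = 0 := classInner_irr_of_ne hne
  have h1 : Cfsg.classInner (fun x : N => if x = 1 then (1 : ℂ) else 0) (ξ : N → ℂ) =
      (Nat.card N : ℂ)⁻¹ * (ξ : N → ℂ) 1 := by
    simp [Cfsg.classInner, conj_apply_one (isCharacter_irr ξ)]
  rw [hexp, classInner_add_left, classInner_smul_left, classInner_smul_left, ind_inner_rel K ξ hξ,
    h1, mul_zero, zero_add, mul_eq_zero, mul_eq_zero, inv_eq_zero] at h0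
  obtain ⟨k, hk, hkne⟩ := hχ
  have hk1 : k ≠ 1 := fun e => hkne (by rw [e])
  refine hkne ?_
  rcases h0 with h0 | h0 | h0
  · rw [hc k hk hk1]; exact (sub_eq_zero.mp h0).symm
  · exact absurd h0 natCard_ne_zero
  · exact absurd h0 (apply_one_ne_zero ξ)

end Cfsg.Agent.Lib.Clifford.KernelChars
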